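import Cfsg.Agent.QTKE.Solv.Key

/-!
A plane of order nine without fixed points, whose four lines all have fixed points, on a module of
characteristic two: every elementary abelian `2`-group normalising it has fixed space of index greater than
the square of its order.
-/

set_option autoImplicit false
set_option linter.unusedSectionVars false
set_option linter.style.haveILetI false

namespace Cfsg.Lib.QTCentZ

open Subgroup Cfsg.Lib.QTSolv
open Cfsg.Lib.FFSLTwo (fixA dd dd_apply dd_eq_zero phi_mul phi_one phi_inv_cancel phi_cancel_inv)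

universe u v

variable {P : Type u} [Group P] [Finite P] {E : Type v} [AddCommGroup E] [Finite E]
variable {φ : P →* AddMonoid.End E}

/-- two elements of a plane off a common line generate it -/
theorem eq_sup_of_not_mem {p : ℕ} [Fact p.Prime] {Q : Subgroup P} (hQ : Cfsg.IsElementaryAbelian p Q)
    (hQc : Nat.card Q = p ^ 2) {u w : P} (hu : u ∈ Q) (hu1 : u ≠ 1) (hw : w ∈ Q) (hwu : w ∉ zpowers u) :
    Q = zpowers u ⊔ zpowers w := by
  have hp : p.Prime := Fact.out
  refine (eq_of_le_of_card_ge (sup_le (zpowers_le.2 hu) (zpowers_le.2 hw)) ?_).symm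
  obtain ⟨i, hi, he⟩ := (Nat.dvd_prime_pow hp).1
    (hQc ▸ card_dvd_of_le (sup_le (zpowers_le.2 hu) (zpowers_le.2 hw)))
  rw [hQc, he]
  refine Nat.pow_le_pow_right hp.pos ?_
  by_contra hlt
  have h1 : Nat.card (zpowers u) = p := by
    rw [Nat.card_zpowers]
    exact orderOf_eq_prime (hQ.2 u hu) hu1
  have h2 : zpowers u = zpowers u ⊔ zpowers w := eq_of_le_of_card_ge le_sup_left (by
    rw [he, h1]
    exact (Nat.pow_le_pow_right hp.pos (by omega : i ≤ 1)).trans (pow_one p).le)
  exact hwu (h2.ge (mem_sup_right (mem_zpowers w)))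

/-- four lines of a plane of order nine -/
theorem four_lines {Q : Subgroup P} (hQ : Cfsg.IsElementaryAbelian 3 Q) {y z : P} (hy : y ∈ Q) (hy1 : y ≠ 1)
    (hz : z ∈ Q) (hzy : z ∉ zpowers y) :
    ∀ i j : Fin 4, i ≠ j → (![y, z, y * z, y ^ 2 * z] j) ∉ zpowers (![y, z, y * z, y ^ 2 * z] i) := by
  haveI := Fact.mk Nat.prime_three
  have hc : Commute y z := Cfsg.Lib.ElemToolkit.comm_of hQ.1 hy hz
  have hord : orderOf y = 3 := orderOf_eq_prime (hQ.2 y hy) hy1
  have hz1 : z ≠ 1 := fun h => hzy (h ▸ one_mem _)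
  have hordz : orderOf z = 3 := orderOf_eq_prime (hQ.2 z hz) hz1
  have inj : ∀ a b c d : ℕ, y ^ a * z ^ b = y ^ c * z ^ d → a % 3 = c % 3 ∧ b % 3 = d % 3 := by
    intro a b c d h
    have h1 : z ^ ((b : ℤ) - d) = y ^ ((c : ℤ) - a) := by
      rw [zpow_sub, zpow_sub, zpow_natCast, zpow_natCast, zpow_natCast, zpow_natCast]
      calc z ^ b * (z ^ d)⁻¹ = (y ^ a)⁻¹ * (y ^ a * z ^ b) * (z ^ d)⁻¹ := by group
        _ = (y ^ a)⁻¹ * y ^ c := by rw [h]; group
        _ = _ := by
          rw [((Commute.refl y).pow_pow a c).inv_left.eq]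
    have hb : b % 3 = d % 3 := by
      by_contra hbd
      refine hzy ?_
      have hmem : z ^ ((b : ℤ) - d) ∈ zpowers y := h1 ▸ zpow_mem (mem_zpowers y) _
      have hcop : IsCoprime (((b : ℤ) - d)) 3 := by
        refine (Prime.coprime_iff_not_dvd Int.prime_three).2 ?_ |>.symm
        omega
      obtain ⟨m, n, hmn⟩ := hcop
      have e : z = (z ^ ((b : ℤ) - d)) ^ m := by
        rw [← zpow_mul]
        conv_lhs => rw [← zpow_one z, ← hmn, zpow_add, mul_comm n 3, zpow_mul z 3 n, zpow_ofNat,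
          hQ.2 z hz, one_zpow, mul_one, mul_comm m]
      rw [e]
      exact zpow_mem hmem m
    have hz' : z ^ b = z ^ d := by rw [pow_inj_mod, hordz, hb]
    rw [hz', mul_right_cancel_iff, pow_inj_mod, hord] at h
    exact ⟨h, hb⟩
  let a : Fin 4 → ℕ := ![1, 0, 1, 2]
  let b : Fin 4 → ℕ := ![0, 1, 1, 1]
  have hg : ∀ i, (![y, z, y * z, y ^ 2 * z] i) = y ^ a i * z ^ b i := by
    intro i; fin_cases i <;> simp [a, b]
  intro i j hij hmem
  rw [hg, hg] at hmem
  obtain ⟨n, hn⟩ := (mem_powers_iff_mem_zpowers.2 hmem : _ ∈ Submonoid.powers (y ^ a i * z ^ b i))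
  simp only at hn
  rw [(hc.pow_pow _ _).mul_pow, ← pow_mul, ← pow_mul] at hn
  obtain ⟨h1, h2⟩ := inj _ _ _ _ hn
  rw [Nat.mul_mod] at h1 h2
  have key : ∀ i j : Fin 4, ∀ k : Fin 3, i ≠ j →
      ¬ ((![1, 0, 1, 2] i % 3 * k.val) % 3 = ![1, 0, 1, 2] j % 3 ∧
        (![0, 1, 1, 1] i % 3 * k.val) % 3 = ![0, 1, 1, 1] j % 3) := by decide
  exact key i j ⟨n % 3, Nat.mod_lt _ (by norm_num)⟩ hij ⟨h1, h2⟩

section

variable (hchar : ∀ v : E, 2 • v = 0)
include hchar

/-- the index of the fixed space of an involution is the size of the moved space -/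
theorem index_fx (a : P) : (fx φ a).index = Nat.card (rg φ a) := AddSubgroup.index_ker _

theorem index_gt {Q A : Subgroup P} (hQ : Cfsg.IsElementaryAbelian 3 Q) (hQc : Nat.card Q = 3 ^ 2)
    (hfix : ∀ v, (∀ x ∈ Q, φ x v = v) → v = 0) (hline : ∀ u ∈ Q, u ≠ 1 → ∃ v, φ u v = v ∧ v ≠ 0)
    (hA : Cfsg.IsElementaryAbelian 2 A) (hn : ∀ a ∈ A, ∀ x ∈ Q, a * x * a ∈ Q)
    (hfaith : ∀ a ∈ A, (∀ x ∈ Q, a * x * a = x) → a = 1) (hne : A ≠ ⊥) :
    Nat.card A ^ 2 < (fixA φ A).index := by
  haveI := Fact.mk Nat.prime_three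
  have hsq : ∀ a ∈ A, a * a = 1 := fun a ha => by rw [← pow_two]; exact hA.2 a ha
  have hcQ : ∀ x ∈ Q, ∀ y ∈ Q, Commute x y := fun x hx y hy => Cfsg.Lib.ElemToolkit.comm_of hQ.1 hx hy
  have hpair : ∀ {u w : P}, u ∈ Q → u ≠ 1 → w ∈ Q → w ∉ zpowers u → ∀ v, φ u v = v → φ w v = v → v = 0 := by
    intro u w hu hu1 hw hwu v h1 h2
    refine hfix v fun x hx => ?_
    exact (eq_sup_of_not_mem hQ hQc hu hu1 hw hwu).le.trans
      (sup_le (zpowers_le.2 (show u ∈ stab φ v from h1)) (zpowers_le.2 (show w ∈ stab φ v from h2))) hx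
  have hidx : ∀ a ∈ A, (fx φ a).index ≤ (fixA φ A).index := fun a ha =>
    Nat.le_of_dvd (Nat.pos_of_ne_zero AddSubgroup.FiniteIndex.index_ne_zero)
      (AddSubgroup.index_dvd_of_le (fixA_le_fx ha))
  have hsecond : ∀ {y : P}, y ∈ Q → y ≠ 1 → ∃ z ∈ Q, z ∉ zpowers y := by
    intro y hy hy1
    by_contra hcon
    push Not at hcon
    have h := Subgroup.card_le_of_le (show Q ≤ zpowers y from hcon)
    rw [hQc, Nat.card_zpowers, orderOf_eq_prime (hQ.2 y hy) hy1] at h
    norm_num at h
  obtain ⟨h4, hsign⟩ := sign_plane Nat.prime_three (by norm_num) hQ hQc hA hn hfaith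
  obtain ⟨a, ha, ha1, hinv⟩ | hnone : (∃ a ∈ A, a ≠ 1 ∧ ∀ x ∈ Q, a * x * a = x⁻¹) ∨
      ¬ ∃ a ∈ A, a ≠ 1 ∧ ∀ x ∈ Q, a * x * a = x⁻¹ := em _
  · -- an inversion
    obtain ⟨y, hy, hy1⟩ : ∃ y ∈ Q, y ≠ 1 := by
      refine (Subgroup.bot_or_exists_ne_one Q).resolve_left fun h => ?_
      rw [h, Subgroup.card_bot] at hQc; norm_num at hQc
    obtain ⟨z, hz, hzy⟩ := hsecond hy hy1
    set g : Fin 4 → P := ![y, z, y * z, y ^ 2 * z] with hgdef
    have hoff := four_lines hQ hy hy1 hz hzy
    have hgQ : ∀ i, g i ∈ Q := by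
      intro i; fin_cases i
      exacts [hy, hz, mul_mem hy hz, mul_mem (pow_mem hy 2) hz]
    have hg1 : ∀ i, g i ≠ 1 := fun i h => by
      obtain ⟨j, hj⟩ : ∃ j : Fin 4, j ≠ i := ⟨i + 1, by fin_cases i <;> decide⟩
      exact hoff j i hj (show g i ∈ zpowers (g j) from h ▸ one_mem _)
    have hex : ∀ i, ∃ e, e ∈ rg φ a ∧ φ (g i) e = e ∧ e ≠ 0 := by
      intro i
      obtain ⟨v, hv, hv0⟩ := hline _ (hgQ i) (hg1 i)
      obtain ⟨j, hj⟩ : ∃ j : Fin 4, i ≠ j := ⟨i + 1, by fin_cases i <;> decide⟩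
      have hc := hcQ _ (hgQ i) _ (hgQ j)
      have hfa : ∀ w, φ (g i) w = w → φ (g i) (φ a w) = φ a w := fun w hw => by
        rw [← phi_mul, show g i * a = a * (g i)⁻¹ by
          rw [← hinv _ (hgQ i), show a * (a * g i * a) = (a * a) * (g i * a) by group, hsq a ha, one_mul],
          phi_mul]
        congr 1
        conv_lhs => rw [← hw]
        exact phi_inv_cancel _ _
      by_contra hcon
      push Not at hcon
      have key : ∀ w, φ (g i) w = w → φ a w = w := fun w hw => by
        have h0 := hcon (dd φ a w) ⟨w, rfl⟩ (by rw [dd_apply, map_sub, hfa w hw, hw])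
        rw [dd_apply, sub_eq_zero] at h0
        exact h0
      have hw : φ (g i) (φ (g j) v) = φ (g j) v := by rw [← phi_mul, hc.eq, phi_mul, hv]
      have h1 := key _ hw
      rw [← phi_mul, show a * g j = (g j)⁻¹ * a by
        rw [← hinv _ (hgQ j), mul_assoc (a * g j), hsq a ha, mul_one], phi_mul, key v hv] at h1
      have h2 := congrArg (φ (g j)) h1
      rw [phi_cancel_inv, ← phi_mul, ← pow_two] at h2
      refine hv0 (hpair (hgQ i) (hg1 i) (hgQ j) (hoff i j hj) v hv ?_)
      have h3 : φ ((g j) ^ 2 * (g j) ^ 2) v = v := by rw [phi_mul, ← h2, ← h2]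
      rwa [← pow_add, show 2 + 2 = 3 + 1 by norm_num, pow_succ, hQ.2 _ (hgQ j), one_mul] at h3
    choose e he hge he0 using hex
    have h16 : 16 ≤ (fx φ a).index := by
      rw [index_fx hchar]
      let f : (Fin 4 → Bool) → rg φ a := fun s =>
        ⟨∑ i, if s i then e i else 0, AddSubgroup.sum_mem _ fun i _ => by
          split_ifs; exacts [he i, AddSubgroup.zero_mem _]⟩
      have hf : Function.Injective f := by
        intro s t hst
        funext k
        have key : ∀ s : Fin 4 → Bool, av φ 3 (g k) (∑ i, if s i then e i else 0) = if s k then e k else 0 := by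
          intro s
          rw [map_sum, Finset.sum_eq_single k]
          · split_ifs
            · exact av_of_fix hchar (by decide) (mem_fx.2 (hge k))
            · exact map_zero _
          · intro i _ hik
            split_ifs
            · exact av_zero (hQ.2 _ (hgQ k)) (hcQ _ (hgQ k) _ (hgQ i)) (S := ⊤) (fun _ _ => AddSubgroup.mem_top _)
                (AddSubgroup.mem_top _) (mem_fx.2 (hge i)) fun v _ h1 h2 =>
                hpair (hgQ i) (hg1 i) (hgQ k) (hoff i k hik) v (mem_fx.1 h2) (mem_fx.1 h1)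
            · exact map_zero _
          · exact fun h => absurd (Finset.mem_univ k) h
        have h := congrArg (fun w : rg φ a => av φ 3 (g k) (w : E)) hst
        simp only [f, key] at h
        cases hs : s k <;> cases ht : t k <;> simp [hs, ht] at h ⊢
        · exact he0 k h.symm
        · exact he0 k h
      calc 16 = Nat.card (Fin 4 → Bool) := by simp
        _ ≤ _ := Nat.card_le_card_of_injective f hf
    rcases Nat.lt_or_ge 2 (Nat.card A) with h2 | h2
    swap
    · calc Nat.card A ^ 2 ≤ 2 ^ 2 := Nat.pow_le_pow_left h2 2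
        _ < 16 := by norm_num
        _ ≤ _ := h16.trans (hidx a ha)
    -- a second element
    obtain ⟨b, hb, hba⟩ : ∃ b ∈ A, b ∉ zpowers a := by
      by_contra hcon
      push Not at hcon
      have h := Subgroup.card_le_of_le (show A ≤ zpowers a from hcon)
      rw [Nat.card_zpowers, orderOf_eq_prime (hA.2 a ha) ha1] at h
      omega
    obtain ⟨u, hu, hu1, hbu⟩ : ∃ u ∈ Q, u ≠ 1 ∧ b * u * b ∉ zpowers u := by
      by_contra hcon
      push Not at hcon
      have hpow : ∀ u ∈ Q, b * u * b = u ∨ b * u * b = u⁻¹ := by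
        intro u hu
        rcases eq_or_ne u 1 with rfl | hu1
        · left; rw [mul_one, hsq b hb]
        rcases sign_of_card Nat.prime_three (by norm_num) (L := zpowers u)
          (by rw [Nat.card_zpowers]; exact orderOf_eq_prime (hQ.2 u hu) hu1) (hsq b hb)
          (by
            intro x hx
            obtain ⟨n, rfl⟩ := (mem_powers_iff_mem_zpowers.2 hx : x ∈ Submonoid.powers u)
            have e : b * u ^ n * b = (b * u * b) ^ n := by
              have hbi : b⁻¹ = b := inv_eq_of_mul_eq_one_right (hsq b hb)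
              conv_rhs => arg 1; arg 2; rw [← hbi]
              rw [conj_pow, hbi]
            simp only [e]
            exact pow_mem (hcon u hu hu1) n) with h | h
        · exact Or.inl (h u (mem_zpowers u))
        · exact Or.inr (h u (mem_zpowers u))
      by_cases hall : ∀ u ∈ Q, b * u * b = u
      · exact hba (hfaith b hb hall ▸ one_mem _)
      push Not at hall
      obtain ⟨u₀, hu₀, hu₀'⟩ := hall
      have hu₀i := (hpow u₀ hu₀).resolve_left hu₀'
      have hab : a * b = 1 := by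
        refine hfaith _ (mul_mem ha hb) fun x hx => ?_
        have hab' : a * b = b * a := Cfsg.Lib.ElemToolkit.comm_of hA.1 ha hb
        have hxi : b * x * b = x⁻¹ := by
          rcases hpow x hx with hxf | h
          swap
          · exact h
          have hsplit : b * (x * u₀) * b = (b * x * b) * (b * u₀ * b) := by
            rw [show b * x * b * (b * u₀ * b) = b * x * (b * b) * u₀ * b by group, hsq b hb]; group
          rw [hxf, hu₀i] at hsplit
          rcases hpow (x * u₀) (mul_mem hx hu₀) with h | h <;> rw [hsplit] at h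
          · exact absurd (hu₀i.trans (mul_left_cancel h)) hu₀'
          · rw [_root_.mul_inv_rev, ((hcQ x hx u₀ hu₀).inv_inv).symm.eq, mul_right_cancel_iff] at h
            rw [hxf]
            exact h
        rw [show a * b * x * (a * b) = a * b * x * (b * a) by rw [hab'],
          show a * b * x * (b * a) = a * (b * x * b) * a by group, hxi, hinv _ (inv_mem hx), inv_inv]
      rw [show b = a⁻¹ from eq_inv_of_mul_eq_one_right hab] at hba
      exact hba (inv_mem (mem_zpowers a))
    obtain ⟨v, hv, hva, hv0⟩ : ∃ v, φ u v = v ∧ φ a v = v ∧ v ≠ 0 := by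
      obtain ⟨v, hv, hv0⟩ := hline u hu hu1
      have hav : φ u (φ a v) = φ a v := by
        rw [← phi_mul, show u * a = a * u⁻¹ by
          rw [← hinv _ hu, show a * (a * u * a) = (a * a) * (u * a) by group, hsq a ha, one_mul], phi_mul]
        congr 1
        conv_lhs => rw [← hv]
        exact phi_inv_cancel _ _
      by_cases h : φ a v = v
      · exact ⟨v, hv, h, hv0⟩
      · refine ⟨v + φ a v, by rw [map_add, hv, hav], by rw [map_add, ← phi_mul, hsq a ha, phi_one, add_comm],
          fun h0 => h ?_⟩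
        exact (eq_neg_of_add_eq_zero_right h0).trans (neg_eq hchar v)
    have hlt : fixA φ A < fx φ a := by
      refine lt_of_le_of_ne (fixA_le_fx ha) fun heq => hv0 ?_
      have hvb : φ b v = v := heq.ge (mem_fx.2 hva) b hb
      refine hpair hu hu1 (hn b hb u hu) hbu v hv ?_
      rw [phi_mul, hvb, phi_mul, hv, hvb]
    have h32 : 32 ≤ (fixA φ A).index := by
      have h := AddSubgroup.relIndex_mul_index (fixA_le_fx (φ := φ) ha)
      have h0 : (fixA φ A).relIndex (fx φ a) ≠ 0 := fun h0 => by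
        rw [h0, zero_mul] at h; exact AddSubgroup.FiniteIndex.index_ne_zero h.symm
      have h1 : (fixA φ A).relIndex (fx φ a) ≠ 1 := fun h1 => hlt.not_ge (AddSubgroup.relIndex_eq_one.1 h1)
      rw [← h]
      calc 32 = 2 * 16 := by norm_num
        _ ≤ _ := Nat.mul_le_mul (by omega) h16
    calc Nat.card A ^ 2 ≤ 4 ^ 2 := Nat.pow_le_pow_left h4 2
      _ < 32 := by norm_num
      _ ≤ _ := h32
  · -- no inversion
    have h2 : Nat.card A ≤ 2 := by
      refine hsign.resolve_left fun ⟨c, hc, hci⟩ => hnone ⟨c, hc, fun h => ?_, hci⟩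
      obtain ⟨y, hy, hy1⟩ : ∃ y ∈ Q, y ≠ 1 := by
        refine (Subgroup.bot_or_exists_ne_one Q).resolve_left fun h' => ?_
        rw [h', Subgroup.card_bot] at hQc; norm_num at hQc
      have h' := hci y hy
      rw [h, one_mul, mul_one] at h'
      exact hy1 (eq_one_of_sq Nat.prime_three (by norm_num) (hQ.2 y hy) (by
        conv_lhs => arg 1; rw [h']
        exact inv_mul_cancel y))
    obtain ⟨a, ha, ha1⟩ := (Subgroup.bot_or_exists_ne_one A).resolve_left hne
    obtain ⟨x, hx, hxa⟩ : ∃ x ∈ Q, a * x * a ≠ x := by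
      by_contra hcon
      push Not at hcon
      exact ha1 (hfaith a ha hcon)
    set w := x⁻¹ * (a * x * a) with hw
    have hwQ : w ∈ Q := mul_mem (inv_mem hx) (hn a ha x hx)
    have hw1 : w ≠ 1 := fun h => hxa (inv_mul_eq_one.1 h).symm
    have hai : a⁻¹ = a := inv_eq_of_mul_eq_one_right (hsq a ha)
    have haw : a * w * a = w⁻¹ := by
      have e : a * x⁻¹ * a = (a * x * a)⁻¹ := by rw [_root_.mul_inv_rev, _root_.mul_inv_rev, hai]; group
      calc a * w * a = (a * x⁻¹ * a) * (x * (a * a)) := by rw [hw]; group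
        _ = w⁻¹ := by rw [hsq a ha, mul_one, e, hw]; group
    obtain ⟨z, hz, hzw⟩ := hsecond hwQ hw1
    have hoff := four_lines hQ hwQ hw1 hz hzw
    set g : Fin 4 → P := ![w, z, w * z, w ^ 2 * z] with hgdef
    have hgQ : ∀ i, g i ∈ Q := by
      intro i; fin_cases i
      exacts [hwQ, hz, mul_mem hwQ hz, mul_mem (pow_mem hwQ 2) hz]
    have hg1 : ∀ i, g i ≠ 1 := fun i h => by
      obtain ⟨j, hj⟩ : ∃ j : Fin 4, j ≠ i := ⟨i + 1, by fin_cases i <;> decide⟩
      exact hoff j i hj (show g i ∈ zpowers (g j) from h ▸ one_mem _)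
    have hne' : ∀ i : Fin 3, i.succ ≠ (0 : Fin 4) := fun i => Fin.succ_ne_zero i
    have hfree : ∀ i : Fin 3, ∀ v ∈ fx φ (g i.succ), φ w v = v → v = 0 := fun i v hv h =>
      hpair (hgQ _) (hg1 _) hwQ (hoff i.succ 0 (hne' i)) v (mem_fx.1 hv) h
    have hstab : ∀ i : Fin 3, ∀ v ∈ fx φ (g i.succ), φ w v ∈ fx φ (g i.succ) := fun i v hv => mem_fx.2 (by
      rw [← phi_mul, (hcQ _ (hgQ _) _ hwQ).eq, phi_mul, mem_fx.1 hv])
    have h := prod_card_le hchar (p := 3) (by decide) (fun i : Fin 3 => g i.succ)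
      (fun i => hQ.2 _ (hgQ _)) (fun i => fx φ (g i.succ)) (fun i => le_rfl) (fun i j => hcQ _ (hgQ _) _ (hgQ _))
      ⊤ (fun i => le_top) (fun i v _ => AddSubgroup.mem_top _)
      (fun i j hij v _ h1 h2 => hpair (hgQ _) (hg1 _) (hgQ _)
        (hoff i.succ j.succ (fun e => hij (Fin.succ_injective _ e))) v (mem_fx.1 h1) (mem_fx.1 h2))
      (w := w) hstab hfree (φ := φ)
    have hfour : ∀ i : Fin 3, 4 ≤ Nat.card (fx φ (g i.succ)) := by
      intro i
      have hd := dvd_card_pred hchar (orderOf_eq_prime (hQ.2 w hwQ) hw1) Nat.prime_three (hstab i) (hfree i)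
      obtain ⟨v, hv, hv0⟩ := hline _ (hgQ i.succ) (hg1 _)
      obtain ⟨k, hk⟩ := exists_two_pow hchar (fx φ (g i.succ))
      have h1 : 1 < Nat.card (fx φ (g i.succ)) := (AddSubgroup.one_lt_card_iff_ne_bot _).2 fun h0 =>
        hv0 (AddSubgroup.mem_bot.1 (h0 ▸ mem_fx.2 hv))
      rw [hk] at hd h1 ⊢
      rcases Nat.lt_or_ge k 2 with h | h
      · interval_cases k
        · norm_num at h1
        · norm_num at hd
      · exact (show 4 = 2 ^ 2 by norm_num).le.trans (Nat.pow_le_pow_right two_pos h)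
    have h64 : 64 ≤ Nat.card (rg φ w) := by
      refine le_trans ?_ h
      rw [Fin.prod_univ_three]
      exact (show 64 = 4 * 4 * 4 by norm_num).le.trans (Nat.mul_le_mul (Nat.mul_le_mul (hfour _) (hfour _)) (hfour _))
    have hb := card_rg_le (φ := φ) hchar (hsq a ha) haw
      (by rw [orderOf_eq_prime (hQ.2 w hwQ) hw1]; decide) ha
    by_contra hcon
    push Not at hcon
    have h1 : (fixA φ A).index ≤ 4 := hcon.trans ((Nat.pow_le_pow_left h2 2).trans (by norm_num))
    have h2' : (fixA φ A).index ^ 2 ≤ 16 := (Nat.pow_le_pow_left h1 2).trans (by norm_num)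
    omega

end

end Cfsg.Lib.QTCentZ
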