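import Cfsg.Agent.QTKE.CentZ.Crit
import Cfsg.Agent.QTKE.CentZ.Three
import Cfsg.Agent.QTKE.Solv.Main

/-!
A member of `Ξ(G, T)` normal in a maximal `2`-local over `C(Ω₁(Z(T)))` is centralised modulo its Frattini part
by the `2`-core of `O²(C(Ω₁(Z(T))))`.
-/

set_option autoImplicit false
set_option linter.unusedSectionVars false
set_option linter.style.haveILetI false

namespace Cfsg.Lib.QTCentZ

open Subgroup Cfsg.Lib.QTSolv
open Cfsg.Lib.FFSLTwo (cj fixA phi_mul phi_one phi_inv_cancel)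
open Cfsg.Lib.Qrc (exists_sec modLift modLift_injective)
open scoped commutatorElement

universe u

variable {G : Type u} [Group G] [Finite G]

/-- `C(Ω₁(Z(T)))` -/
abbrev CZ (T : Sylow 2 G) : Subgroup G := centralizer (Cfsg.omegaCenterOf (T : Subgroup G) : Set G)

/-- a power of an element of order `3` on a group of order `3` -/
theorem aut_three_fix {P : Type u} [Group P] {F : Subgroup P} (hF : Nat.card F = 3) (ξ : MulAut P)
    (hξ : ∀ f ∈ F, ξ f ∈ F) {n : ℕ} (hn : ξ ^ 3 ^ n = 1) : ∀ f ∈ F, ξ f = f := by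
  intro f hf
  rcases eq_or_ne f 1 with rfl | hf1
  · exact map_one ξ
  haveI : Fact (Nat.Prime 3) := ⟨Nat.prime_three⟩
  haveI : Finite F := Nat.finite_of_card_ne_zero (by rw [hF]; norm_num)
  have hord : orderOf f = 3 := by
    have hd : orderOf f ∣ 3 := hF ▸ Subgroup.orderOf_dvd_natCard F hf
    exact ((Nat.dvd_prime Nat.prime_three).1 hd).resolve_left fun h => hf1 (orderOf_eq_one_iff.1 h)
  have hgen : zpowers f = F := eq_of_le_of_card_ge (zpowers_le.2 hf) (by rw [hF, Nat.card_zpowers, hord])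
  obtain ⟨k, hk⟩ := mem_zpowers_iff.1 (hgen.ge (hξ f hf))
  have key : ∀ m : ℕ, (ξ ^ m) f = f ^ (k ^ m) := by
    intro m
    induction m with
    | zero => simp
    | succ m ih => rw [pow_succ', MulAut.mul_apply, ih, map_zpow, ← hk, ← zpow_mul, pow_succ']
  have h1 := key (3 ^ n)
  rw [hn, MulAut.one_apply, eq_comm, ← mul_inv_eq_one, ← zpow_sub_one, ← orderOf_dvd_iff_zpow_eq_one, hord] at h1
  have h3 : ((k ^ 3 ^ n - 1 : ℤ) : ZMod 3) = 0 := (ZMod.intCast_zmod_eq_zero_iff_dvd _ 3).2 h1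
  push_cast at h3
  rw [ZMod.pow_card_pow, sub_eq_zero] at h3
  rw [← hk, ← mul_inv_eq_one, ← zpow_sub_one, ← orderOf_dvd_iff_zpow_eq_one, hord,
    ← ZMod.intCast_zmod_eq_zero_iff_dvd]
  push_cast
  rw [h3, sub_self]

/-- elements of odd order among the automorphisms of a plane of order nine -/
theorem odd_order_three {B : Type u} [Group B] [Finite B] (hB : Nat.card B = 9) {f : MulAut B}
    (ho : Odd (orderOf f)) : ∃ n, f ^ 3 ^ n = 1 := by
  haveI : Finite (MulAut B) := Finite.of_injective (fun e => (e : B → B)) DFunLike.coe_injective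
  suffices h : ∀ r : ℕ, r.Prime → r ∣ orderOf f → r = 3 from
    ⟨(orderOf f).factorization 3, by
      have e := Nat.eq_prime_pow_of_unique_prime_dvd (orderOf_pos f).ne' fun {r} => h r
      have h1 := pow_orderOf_eq_one f
      rw [e] at h1
      rw [e, Nat.Prime.factorization_pow Nat.prime_three]
      simpa using h1⟩
  intro r hr hrd
  haveI := Fact.mk hr
  by_contra hr3
  have hr2 : r ≠ 2 := fun h => by
    subst h
    exact (Nat.not_even_iff_odd.2 ho) (even_iff_two_dvd.2 hrd)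
  have h5 : 5 ≤ r := by
    have := hr.two_le
    by_contra hlt
    interval_cases r <;> first | omega | norm_num at hr
  set g := f ^ (orderOf f / r)
  have hg : orderOf g = r := orderOf_pow_orderOf_div (orderOf_pos f).ne' hrd
  have hP : IsPGroup r (zpowers g) := IsPGroup.of_card (n := 1) (by rw [Nat.card_zpowers, hg, pow_one])
  have hmod := hP.card_modEq_card_fixedPoints B
  let F : Subgroup B :=
    { carrier := {b | g b = b}
      one_mem' := map_one g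
      mul_mem' := fun {a b} ha hb => by show g (a * b) = a * b; rw [map_mul, show g a = a from ha, show g b = b from hb]
      inv_mem' := fun {a} ha => by show g a⁻¹ = a⁻¹; rw [map_inv, show g a = a from ha] }
  have hfix : Nat.card (MulAction.fixedPoints (zpowers g) B) = Nat.card F := by
    refine Nat.card_congr (Equiv.subtypeEquivRight fun b => ?_)
    refine ⟨fun h => h ⟨g, mem_zpowers g⟩, fun h z => ?_⟩
    have hle : zpowers g ≤ MulAction.stabilizer (MulAut B) b := zpowers_le.2 h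
    exact hle z.2
  rw [hfix, hB] at hmod
  have hd : Nat.card F ∣ 3 ^ 2 := by rw [show 3 ^ 2 = Nat.card B from hB.symm]; exact card_subgroup_dvd_card F
  obtain ⟨i, hi, hc⟩ := (Nat.dvd_prime_pow Nat.prime_three).1 hd
  rw [hc] at hmod
  interval_cases i
  · have := Nat.le_of_dvd (by norm_num) ((Nat.modEq_iff_dvd' (by norm_num : 1 ≤ 9)).1 hmod.symm)
    have h8 : r ∣ 2 ^ 3 := (Nat.modEq_iff_dvd' (by norm_num : 1 ≤ 9)).1 hmod.symm
    exact hr2 ((Nat.prime_dvd_prime_iff_eq hr Nat.prime_two).1 (hr.dvd_of_dvd_pow h8))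
  · have h6 : r ∣ 2 * 3 := (Nat.modEq_iff_dvd' (by norm_num : 3 ≤ 9)).1 hmod.symm
    rcases (Nat.Prime.dvd_mul hr).1 h6 with h | h
    · exact hr2 ((Nat.prime_dvd_prime_iff_eq hr Nat.prime_two).1 h)
    · exact hr3 ((Nat.prime_dvd_prime_iff_eq hr Nat.prime_three).1 h)
  · have hF : F = ⊤ := Subgroup.eq_top_of_card_eq F (by rw [hc, hB]; norm_num)
    have h1 : g = 1 := MulEquiv.ext fun b => (hF ▸ mem_top b : b ∈ F)
    rw [h1, orderOf_one] at hg
    omega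

theorem oddGen_closure (H : Subgroup G) :
    closure {x : ↥(Cfsg.oddGenerated H) | Odd (orderOf x)} = ⊤ := by
  refine eq_top_iff.2 fun k _ => ?_
  have hle : Cfsg.oddGenerated H ≤
      (closure {x : ↥(Cfsg.oddGenerated H) | Odd (orderOf x)}).map (Cfsg.oddGenerated H).subtype := by
    refine (closure_le _).2 fun y hy => ⟨⟨y, subset_closure hy⟩, subset_closure ?_, rfl⟩
    show Odd (orderOf (⟨y, _⟩ : ↥(Cfsg.oddGenerated H)))
    rw [← Subgroup.orderOf_coe]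
    exact hy.2
  obtain ⟨a, ha, hae⟩ := hle k.2
  rwa [← show a = k from Subtype.ext hae]

theorem inter_phi (T : Sylow 2 G) {Y : Subgroup G} (hY : Y ∈ Cfsg.Xi (T : Subgroup G)) (hYC : ¬ Y ≤ CZ T) :
    Y ⊓ CZ T ≤ Cfsg.twoPhiCore Y := by
  have hT : (T : Subgroup G) ≤ normalizer ((Cfsg.twoPhiCore Y ⊔ (Y ⊓ CZ T) : Subgroup G) : Set G) :=
    Cfsg.Lib.Coprime.le_normalizer_sup (hY.2.1.trans phi_normal)
      (Cfsg.Lib.Coprime.le_normalizer_inf hY.2.1 ((T_le_cent T).trans le_normalizer))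
  rcases hY.2.2.2.2 _ le_sup_left (sup_le (map_subtype_le _) inf_le_left) hT with h | h
  · exact le_sup_right.trans h.le
  exfalso
  refine hYC ?_
  set π := QuotientGroup.mk' (Cfsg.pCore 2 ↥Y)
  have htop : ((Y ⊓ CZ T).subgroupOf Y).map π = ⊤ := by
    refine frattini_nongenerating (eq_top_iff.2 fun b _ => ?_)
    obtain ⟨y, rfl⟩ := QuotientGroup.mk'_surjective (Cfsg.pCore 2 ↥Y) b
    have hy : (y : G) ∈ Cfsg.twoPhiCore Y ⊔ (Y ⊓ CZ T) := h.ge y.2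
    rw [show Cfsg.twoPhiCore Y = ((frattini (quo Y)).comap π).map Y.subtype from rfl,
      ← map_subgroupOf_eq_of_le (inf_le_left : Y ⊓ CZ T ≤ Y), ← Subgroup.map_sup] at hy
    obtain ⟨z, hz, e⟩ := hy
    rw [← Y.subtype_injective e]
    have h3 := mem_map_of_mem π hz
    rw [Subgroup.map_sup, map_comap_eq_self_of_surjective (QuotientGroup.mk'_surjective _), sup_comm] at h3
    exact h3
  intro y hy
  obtain ⟨v, hv, e⟩ : π ⟨y, hy⟩ ∈ ((Y ⊓ CZ T).subgroupOf Y).map π := htop ▸ mem_top _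
  have h1 : v⁻¹ * ⟨y, hy⟩ ∈ Cfsg.pCore 2 ↥Y := QuotientGroup.eq.1 e
  have h2 : ((v⁻¹ * ⟨y, hy⟩ : ↥Y) : G) ∈ CZ T := T_le_cent T (core_le_T T hY.2.1 (mem_map_of_mem Y.subtype h1))
  simpa using mul_mem (mem_subgroupOf.1 hv).2 h2

/-- two maximal `2`-locals over `C(Ω₁(Z(T)))` -/
structure Ctx (T : Sylow 2 G) : Prop where
  hQ : Cfsg.IsQTKE G
  hL : Cfsg.calL (T : Subgroup G) = ∅
  two : ∃ M₁ M₂ : Subgroup G, M₁ ∈ Cfsg.maxTwoLocalsContaining (CZ T) ∧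
    M₂ ∈ Cfsg.maxTwoLocalsContaining (CZ T) ∧ M₁ ≠ M₂

variable [IsSimpleGroup G] {T : Sylow 2 G} (c : Ctx T)
include c

theorem Ctx.star {X : Subgroup G} (hX : X ∈ Cfsg.Xi (T : Subgroup G)) : X ∈ Cfsg.XiStar (T : Subgroup G) :=
  ⟨hX, fun L hL => absurd hL (c.hL ▸ Set.notMem_empty L)⟩

theorem Ctx.no_xi (hG : ¬ IsMulCommutative G) {X : Subgroup G} (hX : X ∈ Cfsg.Xi (T : Subgroup G)) :
    ¬ X ≤ CZ T := by
  intro hXC
  obtain ⟨M₁, M₂, h₁, h₂, hne⟩ := c.two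
  have huniq := Cfsg.Agent.S1822.result hG c.hQ T X (c.star hX)
  have hle : X ⊔ (T : Subgroup G) ≤ CZ T := sup_le hXC (T_le_cent T)
  have e₁ : M₁ ∈ Cfsg.maxTwoLocalsContaining (X ⊔ (T : Subgroup G)) := ⟨h₁.1, hle.trans h₁.2⟩
  have e₂ : M₂ ∈ Cfsg.maxTwoLocalsContaining (X ⊔ (T : Subgroup G)) := ⟨h₂.1, hle.trans h₂.2⟩
  rw [huniq, Set.mem_singleton_iff] at e₁ e₂
  exact hne (e₁.trans e₂.symm)

theorem Ctx.over {M : Subgroup G} (hM : M ∈ Cfsg.maxTwoLocalsContaining (CZ T)) :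
    M ∈ Cfsg.calHOver (T : Subgroup G) :=
  ⟨Cfsg.Lib.QTUniq.pCore_ne_bot_of_twoLocal hM.1.1, (T_le_cent T).trans hM.2⟩

/-- there is a minimal member of `ℋ(T)` outside a given local over `C(Ω₁(Z(T)))` -/
theorem Ctx.exists_outside {M : Subgroup G} (hM : M ∈ Cfsg.maxTwoLocalsContaining (CZ T)) :
    ∃ H, H ∈ Cfsg.calHMin (T : Subgroup G) M := by
  obtain ⟨M₁, M₂, h₁, h₂, hne⟩ := c.two
  obtain ⟨M', hM', hne'⟩ : ∃ M' ∈ Cfsg.maxTwoLocalsContaining (CZ T), M' ≠ M := by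
    by_cases h' : M₁ = M
    · exact ⟨M₂, h₂, fun h'' => hne (h'.trans h''.symm)⟩
    · exact ⟨M₁, h₁, h'⟩
  obtain ⟨H', hH', hmin'⟩ := Set.exists_min_image
    (Cfsg.calHOverNotLE (T : Subgroup G) M) (fun H => Nat.card H) (Set.toFinite _)
    ⟨M', c.over hM', fun hle => hne' (hM'.1.2 M hM.1.1 hle).symm⟩
  exact ⟨H', hH', fun K hK hle => Subgroup.eq_of_le_of_card_ge hle (hmin' K hK)⟩

variable {M Y : Subgroup G} (hM : M ∈ Cfsg.maxTwoLocalsContaining (CZ T)) (hY : Y ∈ Cfsg.Xi (T : Subgroup G))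
include hM hY

theorem Ctx.normalizer_eq (hG : ¬ IsMulCommutative G) (hYM : Y ≤ M) : M = normalizer (Y : Set G) := by
  have huniq := Cfsg.Agent.S1822.result hG c.hQ T Y (c.star hY)
  have e : M ∈ Cfsg.maxTwoLocalsContaining (Y ⊔ (T : Subgroup G)) := ⟨hM.1, sup_le hYM (c.over hM).2⟩
  rwa [huniq, Set.mem_singleton_iff] at e

/-- the module -/
theorem Ctx.exists_mdl (hG : ¬ IsMulCommutative G) (hYM : Y ≤ M) {p : ℕ} (d : Dat (T : Subgroup G) Y p) :
    ∃ R V, Mdl T Y p R V ∧ V ≤ ⨆ n : ↥(normalizer (Y : Set G) ⊓ normalizer (R : Set G)),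
      cj (n : G) (Cfsg.omegaCenterOf (T : Subgroup G)) := by
  haveI : Fact (Nat.Prime 2) := ⟨Nat.prime_two⟩
  set O := Cfsg.pCoreOf 2 Y with hO
  set R := (T : Subgroup G) ⊓ cq Y with hR
  set N := normalizer (Y : Set G) ⊓ normalizer (R : Set G) with hN
  set Z := Cfsg.omegaCenterOf (T : Subgroup G) with hZ
  set U := ⨆ n : ↥N, cj (n : G) Z with hUdef
  have hYn := c.normalizer_eq hM hY hG hYM
  have hOT : O ≤ (T : Subgroup G) := core_le_T T d.hTX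
  have hXO : Y ≤ normalizer (O : Set G) := le_normalizer.trans (Cfsg.Lib.JComp.normalizer_le_pCoreOf 2 Y)
  have hOX : O ≤ Y := map_subtype_le _
  have hOR : O ≤ R := le_inf hOT fun o ho => mem_cq.2 ⟨le_normalizer (hOX ho), fun x hx => by
    rw [show ⁅x, o⁆ = (x * o * x⁻¹) * o⁻¹ by rw [commutatorElement_def]]
    exact mul_mem ((mem_normalizer_iff.1 (hXO hx) o).1 ho) (inv_mem ho)⟩
  have hXR : Y ≤ normalizer (R : Set G) := Cfsg.Lib.JComp.le_normalizer_of_conj fun x hx r hr => by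
    have h : ⁅x, r⁆ ∈ R := hOR ((mem_cq.1 hr.2).2 x hx)
    rw [show x * r * x⁻¹ = ⁅x, r⁆ * r by rw [commutatorElement_def]; group]
    exact mul_mem h hr
  have hTR : (T : Subgroup G) ≤ normalizer (R : Set G) := Cfsg.Lib.Coprime.le_normalizer_inf le_normalizer
    (d.hTX.trans (cq_normal Y))
  have hXN : Y ≤ N := le_inf le_normalizer hXR
  have hUM : U ≤ Cfsg.omegaCenterOf (Cfsg.pCoreOf 2 M) := by
    refine iSup_le fun n => ?_
    have hn : (n : G) ∈ normalizer (Cfsg.omegaCenterOf (Cfsg.pCoreOf 2 M) : Set G) :=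
      (le_normalizer.trans ((Cfsg.Lib.JComp.normalizer_le_pCoreOf 2 M).trans
        (Cfsg.Lib.JComp.normalizer_le_omegaCenterOf _))) (hYn.ge n.2.1)
    rintro _ ⟨z, hz, rfl⟩
    exact (mem_normalizer_iff.1 hn z).1 (Z_le c.hQ T (c.over hM) hz)
  have hUe : Cfsg.IsElementaryAbelian 2 U :=
    Cfsg.Lib.ElemToolkit.elementary_mono hUM (Cfsg.Lib.JComp.elem_omegaCenterOf _)
  have hNU : N ≤ normalizer (U : Set G) := by
    intro g hg
    refine Cfsg.Lib.Qrc.mem_normalizer_of_cj (le_antisymm ?_ ?_)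
    · rw [hUdef, cj, Subgroup.map_iSup]
      refine iSup_le fun n => ?_
      rw [show (cj (n : G) Z).map (MulAut.conj g).toMonoidHom = cj (g * n) Z from
        Cfsg.Lib.FFModule.cj_mul g (n : G) Z]
      exact le_iSup (fun m : ↥N => cj (m : G) Z) ⟨g * n, mul_mem hg n.2⟩
    · refine iSup_le fun n => ?_
      rw [show cj (n : G) Z = cj g (cj (g⁻¹ * n) Z) by rw [Cfsg.Lib.FFModule.cj_mul g, mul_inv_cancel_left]]
      exact Subgroup.map_mono (le_iSup (fun m : ↥N => cj (m : G) Z) ⟨g⁻¹ * n, mul_mem (inv_mem hg) n.2⟩)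
  have hZC : Z ≤ centralizer (R : Set G) := le_centralizer_iff.1 (inf_le_left.trans (T_le_cent T))
  have hUR : U ≤ centralizer (R : Set G) := by
    refine iSup_le fun n => ?_
    rintro _ ⟨z, hz, rfl⟩
    exact (mem_normalizer_iff.1 (Cfsg.Lib.Large.normalizer_centralizer_le R n.2.2) z).1 (hZC hz)
  have hOU : O ≤ centralizer (U : Set G) := hOR.trans (le_centralizer_iff.1 hUR)
  set V := ⁅U, Y⁆ with hVdef
  have hVU : V ≤ U := Cfsg.Lib.Qrc.commutator_le_left_of_normalize (hXN.trans hNU)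
  have hUY : U ≤ normalizer (Y : Set G) :=
    (hUM.trans ((Cfsg.Lib.JComp.omegaCenterOf_le _).trans (Cfsg.Lib.JComp.pCoreOf_le M))).trans hYn.le
  refine ⟨R, V, ⟨d, rfl, Cfsg.Lib.ElemToolkit.elementary_mono hVU hUe, ?_, ?_,
    fun v hv hvc => no_fix hUe (hXN.trans hNU) hOU d.odd_relIndex hv hvc,
    hOU.trans (centralizer_le hVU), (le_centralizer_iff.1 hUR).trans (centralizer_le hVU), ?_, hOR, hXR, hTR⟩, hVU⟩
  · intro n hn
    refine Cfsg.Lib.Qrc.mem_normalizer_of_cj ?_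
    rw [hVdef, Cfsg.Lib.Qrc.cj_commutator, Cfsg.Lib.Qrc.cj_of_mem_normalizer (hNU hn),
      Cfsg.Lib.Qrc.cj_of_mem_normalizer hn.1]
  · intro hV
    refine c.no_xi hG hY fun y hy => mem_centralizer_iff.2 fun z hz => ?_
    have hzU : z ∈ U := le_iSup (fun m : ↥N => cj (m : G) Z) 1 ⟨z, hz, by simp⟩
    exact (mem_centralizer_iff.1 (commutator_eq_bot_iff_le_centralizer.1 hV hzU) y hy).symm
  · rw [hVdef, commutator_comm]
    exact Cfsg.Lib.Qrc.commutator_le_left_of_normalize hUY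

/-- the `qrc`-lemma leaves a small parameter -/
theorem Ctx.small_param (hG : ¬ IsMulCommutative G) (hYM : Y ≤ M) {p : ℕ} {R V : Subgroup G}
    (m : Mdl T Y p R V) :
    Cfsg.CubicParamLE (Y ⊔ (T : Subgroup G)) V 2 ∨ Cfsg.QuadParamLE (Y ⊔ (T : Subgroup G)) V 2 := by
  obtain ⟨H, hH⟩ := c.exists_outside hM
  have huniq := Cfsg.Agent.S1822.result hG c.hQ T Y (c.star hY)
  have hYn := c.normalizer_eq hM hY hG hYM
  have hMT : M ∈ Cfsg.maxTwoLocalsContaining (T : Subgroup G) := ⟨hM.1, (c.over hM).2⟩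
  rcases Cfsg.Agent.S1824.result hG c.hQ T M (Y ⊔ (T : Subgroup G)) H V hMT le_sup_right
      (sup_le hYM (c.over hM).2) hH m.mem_calR2 (m.core.trans m.T_cent.symm)
      (Or.inl (by rw [m.odd_M0, ← hYn]; exact inf_le_right))
    with ⟨R₀, h0, hR₀, hn⟩ | ⟨-, h⟩ | h
  · exfalso
    have hloc : Cfsg.IsTwoLocal (Subgroup.normalizer (R₀ : Set G)) :=
      ⟨R₀, (Cfsg.Lib.JComp.isPGroup_pCoreOf _).to_le hR₀, h0, rfl⟩
    obtain ⟨L, ⟨hL, hle⟩, hmax⟩ := Set.exists_max_image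
      {L : Subgroup G | Cfsg.IsTwoLocal L ∧ Subgroup.normalizer (R₀ : Set G) ≤ L}
      (fun L => Nat.card L) (Set.toFinite _) ⟨_, hloc, le_rfl⟩
    have hmem : L ∈ Cfsg.maxTwoLocalsContaining (Y ⊔ (T : Subgroup G)) :=
      ⟨⟨hL, fun L' hL' h => (Subgroup.eq_of_le_of_card_ge h (hmax L' ⟨hL', hle.trans h⟩)).symm⟩,
        (le_sup_left.trans hn).trans hle⟩
    rw [huniq, Set.mem_singleton_iff] at hmem
    exact hH.1.2 (((le_sup_right : H ≤ _).trans hn).trans (hle.trans (hmem.trans hYn.symm).le))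
  · exact Or.inl h
  · exact Or.inr h

/-- the Frattini part centralises `Ω₁(Z(T))` -/
theorem Ctx.phi_le (hG : ¬ IsMulCommutative G) (hYM : Y ≤ M) (d : Dat (T : Subgroup G) Y 3)
    (hexp : ∀ z : quo Y, z ^ 3 = 1) {x t₀ : G} (hx : x ∈ Cfsg.oddGenerated (CZ T))
    (ht₀ : t₀ ∈ Cfsg.pCoreOf 2 (Cfsg.oddGenerated (CZ T))) (hxN : x ∈ normalizer (Y : Set G))
    (htN : t₀ ∈ normalizer (Y : Set G)) (hord : ∃ n, chi Y ⟨x, hxN⟩ ^ 3 ^ n = 1) (hx1 : chi Y ⟨x, hxN⟩ ≠ 1)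
    (hinv : ∀ b, chi Y ⟨t₀, htN⟩ b = b⁻¹) : Cfsg.twoPhiCore Y ≤ CZ T := by
  classical
  haveI : Fact (Nat.Prime 2) := ⟨Nat.prime_two⟩
  haveI : Fact (Nat.Prime 3) := ⟨Nat.prime_three⟩
  have hCM : CZ T ≤ M := hM.2
  have hYn := c.normalizer_eq hM hY hG hYM
  have hcoreC : ∀ {o : G}, o ∈ Cfsg.pCoreOf 2 Y → o ∈ CZ T := fun ho => T_le_cent T (core_le_T T d.hTX ho)
  rcases d.hB with ⟨h2, -, -⟩ | ⟨h3, hnab⟩
  · -- nothing to do
    intro f hf
    have hfY : f ∈ Y := map_subtype_le _ hf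
    have h1 := (frattini (quo Y)).card_mul_index
    rw [Cfsg.Lib.QTSolUniq.frattini_quotient_sq d.hB, h2] at h1
    have hbot : frattini (quo Y) = ⊥ := Subgroup.card_eq_one.1 (Nat.eq_of_mul_eq_mul_right (by norm_num) (h1.trans (one_mul _).symm))
    have hfr := (mem_phi hfY).1 hf
    rw [hbot, mem_bot, QuotientGroup.eq_one_iff] at hfr
    exact hcoreC (mem_map_of_mem Y.subtype hfr)
  -- pass to the `3`-part
  obtain ⟨v, mm, hm, he⟩ := Nat.exists_eq_pow_mul_and_not_dvd (orderOf_pos x).ne' 3 (by norm_num)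
  set x' := x ^ mm with hx'def
  have hx' : x' ∈ Cfsg.oddGenerated (CZ T) := pow_mem hx _
  have hx'C : x' ∈ CZ T := Cfsg.Lib.Qrc.oddGenerated_le _ hx'
  have hx'pow : x' ^ 3 ^ v = 1 := by rw [hx'def, ← pow_mul, mul_comm, ← he, pow_orderOf_eq_one]
  have hx'N : x' ∈ normalizer (Y : Set G) := pow_mem hxN _
  set ξ := act Y ⟨x', hx'N⟩ with hξ
  have hξpow : ξ ^ 3 ^ v = 1 := by
    rw [hξ, ← map_pow, show (⟨x', hx'N⟩ : ↥(normalizer (Y : Set G))) ^ 3 ^ v = 1 from Subtype.ext hx'pow, map_one]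
  have hξ1 : chi Y ⟨x', hx'N⟩ ≠ 1 := by
    intro h
    obtain ⟨n, hn⟩ := hord
    rw [show (⟨x', hx'N⟩ : ↥(normalizer (Y : Set G))) = ⟨x, hxN⟩ ^ mm from rfl, map_pow] at h
    refine hx1 (orderOf_eq_one_iff.1 (Nat.eq_one_of_dvd_coprimes
      (((Nat.Prime.coprime_iff_not_dvd Nat.prime_three).2 hm).pow_left n)
      (orderOf_dvd_of_pow_eq_one hn) (orderOf_dvd_of_pow_eq_one h)))
  set τ := act Y ⟨t₀, htN⟩ with hτ
  -- two-elements trivial on the Frattini quotient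
  have htriv : ∀ (s : G) (hsN : s ∈ normalizer (Y : Set G)), (∃ i, s ^ 2 ^ i = 1) →
      chi Y ⟨s, hsN⟩ = 1 → act Y ⟨s, hsN⟩ = 1 := by
    rintro s hsN ⟨i, hi⟩ h
    refine d.stab_eq_one _ ((chi_eq_one_iff Y _).1 h) (k := 2 ^ i)
      (((Nat.coprime_primes Nat.prime_two Nat.prime_three).2 (by norm_num)).pow_left i) ?_
    rw [← map_pow, show (⟨s, hsN⟩ : ↥(normalizer (Y : Set G))) ^ 2 ^ i = 1 from Subtype.ext hi, map_one]
  have h2pow : ∀ {s : G}, s ∈ Cfsg.pCoreOf 2 (Cfsg.oddGenerated (CZ T)) → ∃ i, s ^ 2 ^ i = 1 := fun hs => by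
    obtain ⟨i, hi⟩ := Cfsg.Lib.JComp.isPGroup_pCoreOf _ ⟨_, hs⟩
    exact ⟨i, congrArg Subtype.val hi⟩
  have hcomm : ξ * τ = τ * ξ := by
    set s := x' * t₀ * x'⁻¹ * t₀⁻¹ with hs
    have hsO : s ∈ Cfsg.pCoreOf 2 (Cfsg.oddGenerated (CZ T)) :=
      mul_mem (Cfsg.Lib.JComp.conj_mem ((le_normalizer.trans (Cfsg.Lib.JComp.normalizer_le_pCoreOf 2 _)) hx') ht₀)
        (inv_mem ht₀)
    have hsN : s ∈ normalizer (Y : Set G) := mul_mem (mul_mem (mul_mem hx'N htN) (inv_mem hx'N)) (inv_mem htN)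
    have e : (⟨s, hsN⟩ : ↥(normalizer (Y : Set G))) =
        ⟨x', hx'N⟩ * ⟨t₀, htN⟩ * ⟨x', hx'N⟩⁻¹ * ⟨t₀, htN⟩⁻¹ := rfl
    have hc : chi Y ⟨s, hsN⟩ = 1 := by
      rw [e, map_mul, map_mul, map_mul, map_inv, map_inv, mul_inv_eq_one, mul_inv_eq_iff_eq_mul]
      refine MulEquiv.ext fun b => ?_
      rw [MulAut.mul_apply, MulAut.mul_apply, hinv, hinv, map_inv]
    have h1 := htriv s hsN (h2pow hsO) hc
    rw [e, map_mul, map_mul, map_mul, map_inv, map_inv, mul_inv_eq_one, mul_inv_eq_iff_eq_mul] at h1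
    exact h1
  have hτ2 : τ * τ = 1 := by
    rw [hτ, ← map_mul]
    refine htriv (t₀ * t₀) (mul_mem htN htN) (h2pow (mul_mem ht₀ ht₀)) ?_
    show chi Y (⟨t₀, htN⟩ * ⟨t₀, htN⟩) = 1
    rw [map_mul]
    refine MulEquiv.ext fun b => ?_
    rw [MulAut.mul_apply, hinv, hinv, inv_inv]; rfl
  set Φ := frattini (quo Y) with hΦdef
  have hΦc : Nat.card Φ = 3 := by
    have h1 := Φ.card_mul_index
    rw [Cfsg.Lib.QTSolUniq.frattini_quotient_sq d.hB, h3] at h1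
    exact Nat.eq_of_mul_eq_mul_right (show 0 < 3 ^ 2 by norm_num) (by rw [h1]; norm_num)
  have hΦz : Φ ≤ center (quo Y) := Cfsg.Lib.PGroups.le_center_of_card_eq_prime d.pgroup hΦc
  haveI := Cfsg.Lib.PGroups.isMulCommutative_quotient_frattini d.pgroup
  have hcΦ : ∀ a b : quo Y, ⁅a, b⁆ ∈ Φ := fun a b => by
    rw [hΦdef, ← QuotientGroup.eq_one_iff, ← QuotientGroup.mk'_apply, map_commutatorElement]
    exact commutatorElement_eq_one_iff_mul_comm.2 (mul_comm' _ _)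
  have hgen : ∀ f ∈ Φ, ∀ a b : quo Y, ⁅a, b⁆ ≠ 1 → f ∈ zpowers ⁅a, b⁆ := by
    intro f hf a b hab
    have : zpowers ⁅a, b⁆ = Φ := by
      refine eq_of_le_of_card_ge (zpowers_le.2 (hcΦ a b)) ?_
      rw [hΦc, Nat.card_zpowers, orderOf_eq_prime (hexp _) hab]
    exact this.ge hf
  obtain ⟨a₁, b₁, hab⟩ : ∃ a b : quo Y, ⁅a, b⁆ ≠ 1 := by
    by_contra hall
    push Not at hall
    exact hnab ⟨⟨fun a b => commutatorElement_eq_one_iff_mul_comm.1 (hall a b)⟩⟩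
  have hτinv : ∀ z : quo Y, ∃ f ∈ Φ, τ z = z⁻¹ * f := by
    intro z
    refine ⟨z * τ z, ?_, by group⟩
    induction z using QuotientGroup.induction_on with
    | H y =>
      have h := hinv ((y : quo Y) : frQ Y)
      rw [show chi Y ⟨t₀, htN⟩ ((y : quo Y) : frQ Y) = ((τ (y : quo Y) : quo Y) : frQ Y) from rfl,
        ← mul_eq_one_iff_eq_inv, mul_comm'] at h
      exact (QuotientGroup.eq_one_iff _).1 h
  have hτΦ : ∀ f ∈ Φ, τ f = f := by
    intro f hf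
    obtain ⟨k, rfl⟩ := mem_zpowers_iff.1 (hgen f hf a₁ b₁ hab)
    rw [map_zpow]
    congr 1
    obtain ⟨f₁, hf₁, e₁⟩ := hτinv a₁
    obtain ⟨f₂, hf₂, e₂⟩ := hτinv b₁
    rw [map_commutatorElement, e₁, e₂]
    have c1 : ∀ z : quo Y, Commute f₁ z := fun z => (mem_center_iff.1 (hΦz hf₁) z).symm
    have c2 : ∀ z : quo Y, Commute f₂ z := fun z => (mem_center_iff.1 (hΦz hf₂) z).symm
    calc ⁅a₁⁻¹ * f₁, b₁⁻¹ * f₂⁆ = a₁⁻¹ * (f₁ * (b₁⁻¹ * f₂)) * f₁⁻¹ * a₁⁻¹⁻¹ * (b₁⁻¹ * f₂)⁻¹ := by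
          rw [commutatorElement_def]; group
      _ = a₁⁻¹ * b₁⁻¹ * (f₂ * a₁⁻¹⁻¹) * (b₁⁻¹ * f₂)⁻¹ := by rw [(c1 _).eq]; group
      _ = a₁⁻¹ * b₁⁻¹ * (a₁⁻¹⁻¹ * f₂) * (b₁⁻¹ * f₂)⁻¹ := by rw [(c2 _).eq]
      _ = (b₁ * a₁)⁻¹ * ⁅a₁, b₁⁆ * (b₁ * a₁) := by rw [commutatorElement_def]; group
      _ = ⁅a₁, b₁⁆ := by rw [mul_assoc, ← mem_center_iff.1 (hΦz (hcΦ a₁ b₁)) (b₁ * a₁), inv_mul_cancel_left]
  have hξΦ : ∀ f ∈ Φ, ξ f = f := by
    refine aut_three_fix hΦc ξ (fun f hf => ?_) hξpow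
    have h := mem_map_of_mem ξ.toMonoidHom hf
    rwa [hΦdef, characteristic_iff_map_eq.1 frattini_characteristic] at h
  -- a fixed line of the plane
  obtain ⟨a₀, ha₀, ha₀f⟩ : ∃ a₀ : quo Y, a₀ ∉ Φ ∧ ∃ f ∈ Φ, ξ a₀ = a₀ * f := by
    set η := chi Y ⟨x', hx'N⟩
    have hηp : η ^ 3 ^ v = 1 := by
      rw [← map_pow, show (⟨x', hx'N⟩ : ↥(normalizer (Y : Set G))) ^ 3 ^ v = 1 from Subtype.ext hx'pow, map_one]
    have hpX : IsPGroup 3 (zpowers η) := fun z => by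
      obtain ⟨n, hn⟩ := mem_zpowers_iff.1 z.2
      refine ⟨v, Subtype.ext ?_⟩
      push_cast
      rw [← hn, ← zpow_natCast, ← zpow_mul, mul_comm, zpow_mul, zpow_natCast, hηp, one_zpow]
    obtain ⟨b, hb, hb1⟩ := hpX.exists_fixed_point_of_prime_dvd_card_of_fixed_point (frQ Y)
      (by
        rw [show Nat.card (frQ Y) = Φ.index from (index_eq_card Φ).symm, Cfsg.Lib.QTSolUniq.frattini_quotient_sq d.hB]
        exact dvd_pow_self 3 two_ne_zero)
      (a := 1) (by intro z; exact map_one (z : MulAut (frQ Y)))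
    obtain ⟨a₀, rfl⟩ := QuotientGroup.mk_surjective b
    refine ⟨a₀, fun h => hb1 ((QuotientGroup.eq_one_iff _).2 h).symm, a₀⁻¹ * ξ a₀, ?_, by group⟩
    have h : η (a₀ : frQ Y) = (a₀ : frQ Y) := hb ⟨η, mem_zpowers η⟩
    exact QuotientGroup.eq.1 h.symm
  obtain ⟨f₀, hf₀, hτa₀⟩ := hτinv a₀
  set a := a₀ * (τ a₀)⁻¹ with hadef
  have haΦ : a ∉ Φ := by
    intro h
    refine ha₀ ?_
    have h1 : ((a : quo Y) : frQ Y) = (a₀ : frQ Y) * (a₀ : frQ Y) := by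
      rw [hadef, hτa₀, _root_.mul_inv_rev, inv_inv, QuotientGroup.mk_mul, QuotientGroup.mk_mul, QuotientGroup.mk_inv,
        (QuotientGroup.eq_one_iff f₀).2 hf₀, inv_one, one_mul]
    rw [(QuotientGroup.eq_one_iff a).2 h] at h1
    rw [← QuotientGroup.eq_one_iff]
    have h2 : (a₀ : frQ Y) ^ 3 = 1 := by rw [← QuotientGroup.mk_pow, hexp, QuotientGroup.mk_one]
    rwa [pow_succ, pow_two, ← h1, one_mul] at h2
  have hτa : τ a = a⁻¹ := by
    rw [hadef, map_mul, map_inv, ← MulAut.mul_apply, hτ2, MulAut.one_apply, _root_.mul_inv_rev, inv_inv]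
  have hξa : ξ a = a := by
    obtain ⟨f, hf, hξa₀⟩ := ha₀f
    have hτξ : ξ (τ a₀) = τ a₀ * f := by
      rw [← MulAut.mul_apply, hcomm, MulAut.mul_apply, hξa₀, map_mul, hτΦ f hf]
    rw [hadef, map_mul, map_inv, hτξ, hξa₀, _root_.mul_inv_rev, mul_assoc, mul_inv_cancel_left]
  -- to the quotient of `M`
  have hcoreM : Cfsg.pCore 2 ↥Y ≤ (Cfsg.pCore 2 ↥M).comap (inclusion hYM) := by
    intro o ho
    obtain ⟨z, hz, e⟩ := Cfsg.Lib.JComp.le_pCoreOf (Cfsg.Lib.JComp.isPGroup_pCoreOf (p := 2) Y)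
      ((Cfsg.Lib.JComp.pCoreOf_le Y).trans hYM)
      (hYn.le.trans (Cfsg.Lib.JComp.normalizer_le_pCoreOf 2 Y)) (mem_map_of_mem Y.subtype ho)
    rw [mem_comap, ← show z = inclusion hYM o from Subtype.ext e]
    exact hz
  set g := QuotientGroup.map (Cfsg.pCore 2 ↥Y) (Cfsg.pCore 2 ↥M) (inclusion hYM) hcoreM with hg
  have hginj : Function.Injective g := by
    refine (injective_iff_map_eq_one g).2 fun z hz => ?_
    induction z using QuotientGroup.induction_on with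
    | H y =>
      rw [hg, QuotientGroup.map_mk, QuotientGroup.eq_one_iff] at hz
      refine (QuotientGroup.eq_one_iff y).2 ?_
      have hle := Cfsg.Lib.JComp.le_pCoreOf (H := Y) (A := Cfsg.pCoreOf 2 M ⊓ Y)
        ((Cfsg.Lib.JComp.isPGroup_pCoreOf M).to_le inf_le_left) inf_le_right
        (Cfsg.Lib.Coprime.le_normalizer_inf (hYM.trans (le_normalizer.trans
          (Cfsg.Lib.JComp.normalizer_le_pCoreOf 2 M))) le_normalizer)
      obtain ⟨w, hw, e⟩ := hle (show (y : G) ∈ Cfsg.pCoreOf 2 M ⊓ Y from ⟨⟨_, hz, rfl⟩, y.2⟩)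
      rwa [← show w = y from Subtype.ext e]
  set xh := QuotientGroup.mk' (Cfsg.pCore 2 ↥M) ⟨x', hCM hx'C⟩ with hxh
  have hconj : ∀ w : quo Y, g (ξ w) = xh * g w * xh⁻¹ := by
    intro w
    induction w using QuotientGroup.induction_on with
    | H y =>
      rw [hξ, act_apply, hg, QuotientGroup.map_mk, QuotientGroup.map_mk, hxh, QuotientGroup.mk'_apply,
        ← QuotientGroup.mk_mul, ← QuotientGroup.mk_inv, ← QuotientGroup.mk_mul]
      congr 1
  have hxh_pow : xh ^ 3 ^ v = 1 := by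
    rw [hxh, ← map_pow, show (⟨x', hCM hx'C⟩ : ↥M) ^ 3 ^ v = 1 from Subtype.ext hx'pow, map_one]
  obtain ⟨n, -, hn⟩ := (Nat.dvd_prime_pow Nat.prime_three).1 (orderOf_dvd_of_pow_eq_one hxh_pow)
  have hn0 : n ≠ 0 := by
    intro h
    rw [h, pow_zero, orderOf_eq_one_iff, hxh, QuotientGroup.mk'_apply, QuotientGroup.eq_one_iff] at hn
    obtain ⟨i, hi⟩ := Cfsg.Lib.Components.isPGroup_pCore (G := ↥M) 2 ⟨_, hn⟩
    have hi' : x' ^ 2 ^ i = 1 := congrArg (fun z : Cfsg.pCore 2 ↥M => ((z.1 : ↥M) : G)) hi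
    have h1 : x' = 1 := orderOf_eq_one_iff.1 (Nat.eq_one_of_dvd_coprimes
      (((Nat.coprime_primes Nat.prime_three Nat.prime_two).2 (by norm_num)).pow v i)
      (orderOf_dvd_of_pow_eq_one hx'pow) (orderOf_dvd_of_pow_eq_one hi'))
    exact hξ1 (by rw [show (⟨x', hx'N⟩ : ↥(normalizer (Y : Set G))) = 1 from Subtype.ext h1, map_one])
  set zh := xh ^ 3 ^ (n - 1) with hzh
  have hzh3 : zh ^ 3 = 1 := by
    rw [hzh, ← pow_mul, ← pow_succ, show n - 1 + 1 = n by omega, ← hn, pow_orderOf_eq_one]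
  have hzh1 : zh ≠ 1 := by
    intro h
    have := orderOf_dvd_of_pow_eq_one h
    rw [hn, Nat.pow_dvd_pow_iff_le_right (by norm_num)] at this
    omega
  set A := zpowers a ⊔ Φ with hA
  have hmemA : ∀ w ∈ A, ∃ i : ℤ, ∃ f ∈ Φ, w = a ^ i * f := by
    intro w hw
    haveI : Φ.Normal := inferInstance
    obtain ⟨u, hu, f, hf, e⟩ := mem_sup_of_normal_right.1 hw
    obtain ⟨i, rfl⟩ := mem_zpowers_iff.1 hu
    exact ⟨i, f, hf, e.symm⟩
  have hcardA : 3 ^ 2 ≤ Nat.card A := by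
    obtain ⟨i, hi⟩ := (d.pgroup.to_subgroup A).exists_card_eq
    rw [hi]
    refine Nat.pow_le_pow_right (by norm_num) ?_
    by_contra hlt
    have h2 : Φ = A := eq_of_le_of_card_ge le_sup_right (by
      rw [hi, hΦc]
      exact (Nat.pow_le_pow_right (by norm_num) (by omega : i ≤ 1)).trans (pow_one 3).le)
    exact haΦ (h2.ge (mem_sup_left (mem_zpowers a)))
  have hcA : ∀ u ∈ A, ∀ w ∈ A, u * w = w * u := by
    intro u hu w hw
    obtain ⟨i, f, hf, rfl⟩ := hmemA u hu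
    obtain ⟨j, f', hf', rfl⟩ := hmemA w hw
    have c1 : ∀ z : quo Y, Commute f z := fun z => (mem_center_iff.1 (hΦz hf) z).symm
    have c2 : ∀ z : quo Y, Commute f' z := fun z => (mem_center_iff.1 (hΦz hf') z).symm
    exact ((((Commute.refl a).zpow_zpow i j).mul_right (c2 _).symm).mul_left (c1 _)).eq
  have hfixA : ∀ w ∈ A, ξ w = w := by
    intro w hw
    obtain ⟨i, f, hf, rfl⟩ := hmemA w hw
    rw [map_mul, map_zpow, hξa, hξΦ f hf]
  have hcomz : ∀ w ∈ A, g w * zh = zh * g w := by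
    intro w hw
    refine (Commute.pow_right ?_ _).eq
    have h := hconj w
    rw [hfixA w hw, eq_mul_inv_iff_mul_eq] at h
    exact h
  by_cases hzA : zh ∈ A.map g
  swap
  · exfalso
    have hrk : Cfsg.PRankLE 3 2 (↥M ⧸ Cfsg.pCore 2 ↥M) := by
      refine Cfsg.Lib.QTSolUniq.pRankLE_quotient _ ?_
        (Cfsg.Lib.QTUniq.rank_le (hQT := c.hQ.1) (c.over hM).1 3 Nat.prime_three (by norm_num))
      obtain ⟨j, hj⟩ := (Cfsg.Lib.Components.isPGroup_pCore (G := ↥M) 2).exists_card_eq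
      rw [hj]
      exact ((Nat.coprime_primes Nat.prime_two Nat.prime_three).2 (by norm_num)).pow_left j
    refine Cfsg.Lib.QTSolUniq.false_of_three
      (Cfsg.Lib.OddP.pRankLE_of_injective (⊤ : Subgroup (↥M ⧸ Cfsg.pCore 2 ↥M)).subtype
        (Subgroup.subtype_injective _) hrk) (B := A.map g) le_top ?_ ?_ ?_ (mem_top zh) hzh3 hzA ?_
    · rintro _ ⟨u, hu, rfl⟩ _ ⟨w, hw, rfl⟩
      rw [← map_mul, ← map_mul, hcA u hu w hw]
    · rintro _ ⟨u, -, rfl⟩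
      rw [← map_pow, hexp, map_one]
    · rwa [card_map_of_injective hginj]
    · rintro _ ⟨u, hu, rfl⟩
      exact hcomz u hu
  obtain ⟨w, hw, hwe⟩ := hzA
  obtain ⟨y, rfl⟩ := QuotientGroup.mk_surjective w
  have hyC : (y : G) ∈ CZ T := by
    rw [hg, QuotientGroup.map_mk, hzh, hxh, ← map_pow, QuotientGroup.mk'_apply, QuotientGroup.eq] at hwe
    have h1 : ((y : G))⁻¹ * x' ^ 3 ^ (n - 1) ∈ CZ T := by
      have h := mem_map_of_mem M.subtype hwe
      exact T_le_cent T (core_le T (c.over hM).2 h)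
    have h2 := mul_mem (pow_mem hx'C (3 ^ (n - 1))) (inv_mem h1)
    simpa using h2
  have hyΦ : (y : quo Y) ∈ Φ := (mem_phi y.2).1 (inter_phi T hY (c.no_xi hG hY) ⟨y.2, hyC⟩)
  have hy1 : (y : quo Y) ≠ 1 := fun h => hzh1 (by rw [← hwe, h, map_one])
  intro f hf
  have hfY : f ∈ Y := map_subtype_le _ hf
  have hgenΦ : zpowers (y : quo Y) = Φ := eq_of_le_of_card_ge (zpowers_le.2 hyΦ)
    (by rw [hΦc, Nat.card_zpowers, orderOf_eq_prime (hexp _) hy1])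
  obtain ⟨k, hk⟩ := mem_zpowers_iff.1 (hgenΦ.ge ((mem_phi hfY).1 hf))
  rw [← QuotientGroup.mk_zpow, QuotientGroup.eq] at hk
  have h2 := hcoreC (mem_map_of_mem Y.subtype hk)
  have h3 := mul_mem (zpow_mem hyC k) h2
  simpa using h3

end Cfsg.Lib.QTCentZ
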