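import Cfsg.Agent.S1821
import Cfsg.Agent.QTKE.SolUniq.Main
import Cfsg.Agent.QTKE.Qrc.Sect
import Cfsg.Prelude.Def_QuasithinSetup

/-!
If `ℒ_f(G, T)` is empty and `C(Ω₁(Z(T)))` lies in two maximal `2`-locals, `ℒ(G, T)` is empty and all members
of `ℋ(T)` are solvable.
-/

set_option autoImplicit false
set_option linter.unusedSectionVars false
set_option linter.style.haveILetI false

namespace Cfsg.Lib.QTCentZ

open Subgroup
open scoped commutatorElement

universe u

section Abstract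

variable {Y : Type u} [Group Y]

theorem exists_iterate_le (U : Subgroup Y) {L : Subgroup Y} (h : L.IsSubnormal) :
    ∃ n : ℕ, (fun V => ⁅V, L⁆)^[n] U ≤ L := by
  induction h with
  | top => exact ⟨0, le_top⟩
  | step H K hle _ hnorm ih =>
    obtain ⟨n, hn⟩ := ih
    refine ⟨n + 1, ?_⟩
    have hmono : ∀ n : ℕ, (fun V => ⁅V, H⁆)^[n] U ≤ (fun V => ⁅V, K⁆)^[n] U := by
      intro n
      induction n with
      | zero => exact le_rfl
      | succ n ih => rw [Function.iterate_succ_apply', Function.iterate_succ_apply']; exact commutator_mono ih hle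
    rw [Function.iterate_succ_apply']
    refine (commutator_mono ((hmono n).trans hn) le_rfl).trans ?_
    have hKn : K ≤ normalizer (H : Set Y) := normal_subgroupOf_iff_le_normalizer hle |>.1 hnorm
    exact commutator_le.2 fun k hk x hx => by
      rw [commutatorElement_def]
      exact mul_mem ((mem_normalizer_iff.1 (hKn hk) x).1 hx) (inv_mem hx)

/-- a perfect subnormal subgroup centralises a normal abelian subgroup whose part inside it is central -/
theorem perfect_centralizes {U L : Subgroup Y} [U.Normal] (hp : ⁅L, L⁆ = L) (hsn : L.IsSubnormal)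
    (h : U ⊓ L ≤ centralizer (L : Set Y)) : U ≤ centralizer (L : Set Y) := by
  rw [← commutator_eq_bot_iff_le_centralizer]
  obtain ⟨n, hn⟩ := exists_iterate_le U hsn
  have hU : ∀ n : ℕ, (fun V => ⁅V, L⁆)^[n] U ≤ U := by
    intro n
    induction n with
    | zero => exact le_rfl
    | succ n ih =>
      rw [Function.iterate_succ_apply']
      exact (commutator_mono ih le_rfl).trans (commutator_le_left U L)
  have h1 : (fun V => ⁅V, L⁆)^[n + 1] U = ⊥ := by
    rw [Function.iterate_succ_apply', commutator_eq_bot_iff_le_centralizer]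
    exact (le_inf (hU n) hn).trans h
  clear hn
  induction n with
  | zero => exact h1
  | succ n ih =>
    refine ih ?_
    rw [Function.iterate_succ_apply', Function.iterate_succ_apply'] at h1
    rw [Function.iterate_succ_apply']
    set V := (fun V => ⁅V, L⁆)^[n] U
    have h2 : ⁅⁅L, L⁆, V⁆ = ⊥ := commutator_commutator_eq_bot_of_rotate (by rw [commutator_comm L V]; exact h1) h1
    rwa [hp, commutator_comm] at h2

end Abstract

variable {G : Type u} [Group G] [Finite G]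

theorem core_le (T : Sylow 2 G) {H : Subgroup G} (hTH : (T : Subgroup G) ≤ H) :
    Cfsg.pCoreOf 2 H ≤ (T : Subgroup G) := by
  haveI : Fact (Nat.Prime 2) := ⟨Nat.prime_two⟩
  have hn : (T : Subgroup G) ≤ normalizer (Cfsg.pCoreOf 2 H : Set G) :=
    hTH.trans (le_normalizer.trans (Cfsg.Lib.JComp.normalizer_le_pCoreOf 2 H))
  exact (T.is_maximal' ((Cfsg.Lib.JComp.isPGroup_pCoreOf H).to_sup_of_normal_left' T.2 hn) le_sup_right) ▸ le_sup_left

theorem core_ne_bot {H : Subgroup G} (hH : H ∈ Cfsg.calH G) : Cfsg.pCoreOf 2 H ≠ ⊥ := fun h =>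
  hH ((map_eq_bot_iff_of_injective _ H.subtype_injective).1 h)

/-- members of `ℋ(T)` are of characteristic two -/
theorem selfCent (hQ : Cfsg.IsQTKE G) (T : Sylow 2 G) {H : Subgroup G}
    (hH : H ∈ Cfsg.calHOver (T : Subgroup G)) :
    H ⊓ centralizer (Cfsg.pCoreOf 2 H : Set G) ≤ Cfsg.pCoreOf 2 H := by
  set N := normalizer (Cfsg.pCoreOf 2 H : Set G) with hN
  have hloc : Cfsg.IsTwoLocal N := ⟨_, Cfsg.Lib.JComp.isPGroup_pCoreOf H, core_ne_bot hH.1, rfl⟩
  have hHN : H ≤ N := le_normalizer.trans (Cfsg.Lib.JComp.normalizer_le_pCoreOf 2 H)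
  have hc := hQ.2.2 N hloc ⟨T, hH.2.trans hHN⟩
  have hle : Cfsg.pCoreOf 2 N ≤ Cfsg.pCoreOf 2 H := Cfsg.Lib.JComp.le_pCoreOf
    (Cfsg.Lib.JComp.isPGroup_pCoreOf N) ((core_le T (hH.2.trans hHN)).trans hH.2)
    (hHN.trans (le_normalizer.trans (Cfsg.Lib.JComp.normalizer_le_pCoreOf 2 N)))
  rintro x ⟨hxH, hxc⟩
  refine hle ⟨⟨x, hHN hxH⟩, hc (mem_centralizer_iff.2 fun y hy => Subtype.ext ?_), rfl⟩
  exact mem_centralizer_iff.1 hxc _ (hle (mem_map_of_mem N.subtype hy))

theorem Z_le (hQ : Cfsg.IsQTKE G) (T : Sylow 2 G) {H : Subgroup G}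
    (hH : H ∈ Cfsg.calHOver (T : Subgroup G)) :
    Cfsg.omegaCenterOf (T : Subgroup G) ≤ Cfsg.omegaCenterOf (Cfsg.pCoreOf 2 H) := by
  intro z hz
  obtain ⟨hzT, hzc, hz2⟩ := Cfsg.Lib.JComp.mem_omegaCenterOf.1 hz
  have hzO : z ∈ Cfsg.pCoreOf 2 H := selfCent hQ T hH
    ⟨hH.2 hzT, mem_centralizer_iff.2 fun y hy => hzc y (core_le T hH.2 hy)⟩
  exact Cfsg.Lib.JComp.mem_omegaCenterOf.2 ⟨hzO, fun y hy => hzc y (core_le T hH.2 hy), hz2⟩

theorem T_le_cent (T : Sylow 2 G) :
    (T : Subgroup G) ≤ centralizer (Cfsg.omegaCenterOf (T : Subgroup G) : Set G) := fun t ht =>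
  mem_centralizer_iff.2 fun _ hz => ((Cfsg.Lib.JComp.mem_omegaCenterOf.1 hz).2.1 t ht).symm

theorem oddGen_of_perfect {L : Subgroup G} (hL : ⁅L, L⁆ = L) : Cfsg.oddGenerated L = L := by
  refine le_antisymm (Cfsg.Lib.Qrc.oddGenerated_le L) ?_
  haveI : ((Cfsg.oddGenerated L).subgroupOf L).Normal :=
    normal_subgroupOf_of_le_normalizer (Cfsg.Lib.Qrc.le_normalizer_oddGenerated L)
  haveI : Fact (Nat.Prime 2) := ⟨Nat.prime_two⟩
  have hp : IsPGroup 2 (↥L ⧸ (Cfsg.oddGenerated L).subgroupOf L) := by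
    intro q
    induction q using QuotientGroup.induction_on with
    | H y =>
      obtain ⟨s, hs⟩ := Cfsg.Lib.JComp.exists_odd_pow (y : G)
      refine ⟨s, ?_⟩
      rw [← QuotientGroup.mk_pow, QuotientGroup.eq_one_iff, mem_subgroupOf]
      push_cast
      exact subset_closure ⟨pow_mem y.2 _, hs⟩
  haveI := hp.isNilpotent
  haveI : Group.IsSolvable (↥L ⧸ (Cfsg.oddGenerated L).subgroupOf L) := inferInstance
  intro x hx
  refine mem_subgroupOf.1 ((QuotientGroup.eq_one_iff (N := (Cfsg.oddGenerated L).subgroupOf L) (⟨x, hx⟩ : L)).1 ?_)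
  by_contra hne
  haveI : Group.IsPerfect ↥L := Cfsg.Lib.QTUniq.isPerfect_subtype hL
  have htop : ∀ n, derivedSeries (↥L ⧸ (Cfsg.oddGenerated L).subgroupOf L) n = ⊤ := by
    intro n
    induction n with
    | zero => rfl
    | succ n ih =>
      rw [derivedSeries_succ, ih, eq_top_iff]
      intro q _
      induction q using QuotientGroup.induction_on with
      | H y =>
        have he : (⁅(⊤ : Subgroup L), ⊤⁆ : Subgroup L).map L.subtype = (⊤ : Subgroup L).map L.subtype := by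
          rw [Subgroup.map_commutator, ← MonoidHom.range_eq_map, range_subtype, hL]
        have hy : y ∈ (⁅(⊤ : Subgroup L), ⊤⁆ : Subgroup L) := by
          rw [map_injective L.subtype_injective he]
          exact mem_top y
        have := mem_map_of_mem (QuotientGroup.mk' ((Cfsg.oddGenerated L).subgroupOf L)) hy
        rw [Subgroup.map_commutator] at this
        exact commutator_mono le_top le_top this
  obtain ⟨n, hn⟩ := (isSolvable_def _).1 ‹Group.IsSolvable (↥L ⧸ (Cfsg.oddGenerated L).subgroupOf L)›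
  rw [htop] at hn
  exact hne (mem_bot.1 (hn ▸ mem_top _))

variable [IsSimpleGroup G]

/-- no member of `ℒ(G, T)` -/
theorem calL_empty (hG : ¬ IsMulCommutative G) (hQ : Cfsg.IsQTKE G) (T : Sylow 2 G)
    (hE : Cfsg.calLf (T : Subgroup G) = ∅) {M₁ M₂ : Subgroup G}
    (h₁ : M₁ ∈ Cfsg.maxTwoLocalsContaining (centralizer (Cfsg.omegaCenterOf (T : Subgroup G) : Set G)))
    (h₂ : M₂ ∈ Cfsg.maxTwoLocalsContaining (centralizer (Cfsg.omegaCenterOf (T : Subgroup G) : Set G)))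
    (hne : M₁ ≠ M₂) : Cfsg.calL (T : Subgroup G) = ∅ := by
  classical
  set Z := Cfsg.omegaCenterOf (T : Subgroup G)
  refine Set.eq_empty_iff_forall_notMem.2 fun L0 hL0 => ?_
  obtain ⟨L, hL, hmax⟩ := Set.exists_max_image (Cfsg.calL (T : Subgroup G)) (fun L => Nat.card L)
    (Set.toFinite _) ⟨L0, hL0⟩
  have hLmax : L ∈ Cfsg.calLMax (T : Subgroup G) :=
    ⟨hL, fun K hK hle => (eq_of_le_of_card_ge hle (hmax K hK)).symm⟩
  obtain ⟨-, hF, huniq⟩ := Cfsg.Agent.S1821.result hG hQ T L hLmax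
  have hL' := hL
  obtain ⟨⟨hLne, hLp, hLsn, -⟩, -, hcore⟩ := hL
  set H := L ⊔ (T : Subgroup G) with hH
  have hLperf : ⁅L, L⁆ = L := by
    have h := congrArg (Subgroup.map H.subtype) hLp
    rwa [Subgroup.map_commutator, map_subgroupOf_eq_of_le le_sup_left] at h
  have hLne' : L ≠ ⊥ := fun h => hLne (by rw [h, bot_subgroupOf])
  have hV : Cfsg.moduleV L = ⊥ := by
    by_contra h
    exact Set.notMem_empty L (hE ▸ (⟨hL', ⟨hLne', oddGen_of_perfect hLperf, hF⟩, h⟩ : L ∈ Cfsg.calLf (T : Subgroup G)))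
  have hHT : H ∈ Cfsg.calHOver (T : Subgroup G) := ⟨hcore, le_sup_right⟩
  have hZ := Z_le hQ T hHT
  set O := Cfsg.pCoreOf 2 H with hO
  set U := Cfsg.omegaCenterOf O with hU
  haveI : (U.subgroupOf H).Normal := normal_subgroupOf_of_le_normalizer
    (le_normalizer.trans ((Cfsg.Lib.JComp.normalizer_le_pCoreOf 2 H).trans
      (Cfsg.Lib.JComp.normalizer_le_omegaCenterOf O)))
  have hcent := perfect_centralizes (U := U.subgroupOf H) hLp hLsn (by
    rintro u ⟨hu, huL⟩
    obtain ⟨huO, huc, hu2⟩ := Cfsg.Lib.JComp.mem_omegaCenterOf.1 (mem_subgroupOf.1 hu)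
    refine mem_centralizer_iff.2 fun l hl => Subtype.ext ?_
    have hOL : Cfsg.pCoreOf 2 L ≤ O := by
      refine Cfsg.Lib.JComp.le_pCoreOf_of_subnormal (Cfsg.Lib.JComp.isPGroup_pCoreOf L)
        ((Cfsg.Lib.JComp.pCoreOf_le L).trans le_sup_left) ?_
      have hle : (Cfsg.pCoreOf 2 L).subgroupOf H ≤ L.subgroupOf H :=
        Subgroup.comap_mono (Cfsg.Lib.JComp.pCoreOf_le L)
      haveI : (((Cfsg.pCoreOf 2 L).subgroupOf H).subgroupOf (L.subgroupOf H)).Normal := by
        refine normal_subgroupOf_of_le_normalizer ?_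
        exact (Subgroup.comap_mono (le_normalizer.trans (Cfsg.Lib.JComp.normalizer_le_pCoreOf 2 L))).trans
          (le_normalizer_comap H.subtype)
      rw [← map_subgroupOf_eq_of_le hle]
      exact Subgroup.IsSubnormal.trans' (Subgroup.Normal.isSubnormal inferInstance) hLsn
    have huL' : (u : G) ∈ L := mem_subgroupOf.1 huL
    have huOL : (u : G) ∈ Cfsg.pCoreOf 2 L := by
      haveI : ((U ⊓ L).subgroupOf L).Normal := normal_subgroupOf_of_le_normalizer
        (Cfsg.Lib.Coprime.le_normalizer_inf ((le_sup_left : L ≤ H).trans (le_normalizer.trans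
          ((Cfsg.Lib.JComp.normalizer_le_pCoreOf 2 H).trans (Cfsg.Lib.JComp.normalizer_le_omegaCenterOf O))))
          le_normalizer)
      refine Cfsg.Lib.JComp.le_pCoreOf (A := U ⊓ L) ((Cfsg.Lib.JComp.isPGroup_pCoreOf H).to_le
        (inf_le_left.trans (Cfsg.Lib.JComp.omegaCenterOf_le O))) inf_le_right
        (normal_subgroupOf_iff_le_normalizer inf_le_right |>.1 inferInstance) ⟨mem_subgroupOf.1 hu, huL'⟩
    have hmem : (u : G) ∈ Cfsg.omegaCenterOf (Cfsg.pCoreOf 2 L) :=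
      Cfsg.Lib.JComp.mem_omegaCenterOf.2 ⟨huOL, fun y hy => huc y (hOL hy), hu2⟩
    exact mem_centralizer_iff.1 (commutator_eq_bot_iff_le_centralizer.1 hV hmem) _ (mem_subgroupOf.1 hl))
  have hLC : L ≤ centralizer (Z : Set G) := fun l hl => mem_centralizer_iff.2 fun z hz => by
    have hzH : z ∈ H := mem_sup_right ((Cfsg.Lib.JComp.mem_omegaCenterOf.1 hz).1)
    exact (congrArg Subtype.val (mem_centralizer_iff.1 (hcent (x := ⟨z, hzH⟩) (mem_subgroupOf.2 (hZ hz)))
      ⟨l, mem_sup_left hl⟩ (mem_subgroupOf.2 hl))).symm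
  have hle : H ≤ centralizer (Z : Set G) := sup_le hLC (T_le_cent T)
  have e₁ : M₁ ∈ Cfsg.maxTwoLocalsContaining H := ⟨h₁.1, hle.trans h₁.2⟩
  have e₂ : M₂ ∈ Cfsg.maxTwoLocalsContaining H := ⟨h₂.1, hle.trans h₂.2⟩
  rw [huniq, Set.mem_singleton_iff] at e₁ e₂
  exact hne (e₁.trans e₂.symm)

/-- members of `ℋ(T)` are solvable -/
theorem solvable_over (T : Sylow 2 G) (hL : Cfsg.calL (T : Subgroup G) = ∅) {H : Subgroup G}
    (hH : H ∈ Cfsg.calHOver (T : Subgroup G)) : Group.IsSolvable ↥H := by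
  classical
  haveI : Fact (Nat.Prime 2) := ⟨Nat.prime_two⟩
  obtain ⟨R, hR, -⟩ : ∃ R : Subgroup ↥H, R = Cfsg.perfectCore ↥H ∧ True := ⟨_, rfl, trivial⟩
  by_contra hns
  have hne : Cfsg.Lib.CoprimeLayer.perfCore (⊤ : Subgroup ↥H) ≠ ⊥ := fun h =>
    hns (Cfsg.Lib.QTUniq.isSolvable_of_equiv Subgroup.topEquiv (Cfsg.Lib.QTUniq.perfCore_eq_bot_solvable h))
  set C := {K : Subgroup ↥H | K ≠ ⊥ ∧ ⁅K, K⁆ = K ∧ K.IsSubnormal}
  obtain ⟨K, hK, hmin⟩ := Set.exists_min_image C (fun K => Nat.card K) (Set.toFinite _)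
    ⟨_, hne, Cfsg.Lib.CoprimeLayer.perfCore_perfect _, Subgroup.Normal.isSubnormal (normalizer_eq_top_iff.1 (top_le_iff.1 (le_normalizer.trans
      (Cfsg.Lib.CoprimeLayer.normalizer_le_normalizer_perfCore ⊤))))⟩
  have hKC : K ∈ Cfsg.calC ↥H := ⟨hK.1, hK.2.1, hK.2.2, fun J hJ hJ' =>
    hJ.ne (eq_of_le_of_card_ge hJ.le (hmin J hJ'))⟩
  set L := K.map H.subtype
  have hle : L ⊔ (T : Subgroup G) ≤ H := sup_le (map_subtype_le K) hH.2
  have hKe : L.subgroupOf H = K := comap_map_eq_self_of_injective H.subtype_injective K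
  refine Set.notMem_empty L (hL ▸ (show L ∈ Cfsg.calL (T : Subgroup G) from ?_))
  obtain ⟨hKmin, hKsn⟩ := Cfsg.Lib.QTUniq.calC_iff.1 hKC
  refine ⟨Cfsg.Lib.QTUniq.calC_iff.2 ⟨Cfsg.Lib.QTUniq.minPerf_subgroupOf le_sup_left ?_, ?_⟩,
    ⟨T.subtype le_sup_right, Sylow.coe_subtype T _⟩, ?_⟩
  · exact hKmin.map _ fun he => hKmin.ne ((map_eq_bot_iff_of_injective _ H.subtype_injective).1 he)
  · have e : L.subgroupOf (L ⊔ (T : Subgroup G)) = K.comap (inclusion hle) := by
      rw [← hKe]; ext x; rfl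
    rw [e]
    exact hKsn.comap _
  · intro he
    have h4 := Cfsg.Lib.JComp.le_pCoreOf (H := L ⊔ (T : Subgroup G))
      (Cfsg.Lib.JComp.isPGroup_pCoreOf (p := 2) H) ((core_le T hH.2).trans le_sup_right)
      (hle.trans (le_normalizer.trans (Cfsg.Lib.JComp.normalizer_le_pCoreOf 2 H)))
    rw [show Cfsg.pCoreOf 2 (L ⊔ (T : Subgroup G)) = ⊥ by rw [Cfsg.pCoreOf, he, Subgroup.map_bot], le_bot_iff] at h4
    exact core_ne_bot hH.1 h4

end Cfsg.Lib.QTCentZ
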