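import Mathlib.GroupTheory.Transfer
import Mathlib.GroupTheory.Sylow
import Mathlib.Algebra.Group.Subgroup.Pointwise
import Cfsg.Agent.Thompson.ElemToolkit

/-!
Automorphisms of an elementary abelian group of order at most `p ^ 2`: a reducible Sylow `2`-subgroup has a
normal complement, and an element of order a power of `p` moving a `2`-group forces `p ≠ 5` and, for `p = 3`,
transitivity on the four lines and an inversion.
-/

set_option autoImplicit false
set_option linter.unusedSectionVars false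
set_option linter.style.haveILetI false

namespace Cfsg.Lib.QTCentZ

open Subgroup
open scoped Pointwise

universe u v

variable {B : Type u} [CommGroup B] [Finite B] {p : ℕ} [Fact p.Prime]

theorem mulAut_finite : Finite (MulAut B) := Finite.of_injective (fun e => (e : B → B)) DFunLike.coe_injective

theorem line_gen {L : Subgroup B} (hL : Nat.card L = p) {u : B} (hu : u ∈ L) (h1 : u ≠ 1) : zpowers u = L := by
  refine eq_of_le_of_card_ge (zpowers_le.2 hu) ?_
  rw [hL, Nat.card_zpowers]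
  rcases (Nat.dvd_prime Fact.out).1 (hL ▸ Subgroup.orderOf_dvd_natCard L hu) with h | h
  · exact absurd (orderOf_eq_one_iff.1 h) h1
  · exact h.ge

theorem line_exists {L : Subgroup B} (hL : Nat.card L = p) : ∃ u ∈ L, u ≠ 1 :=
  (Subgroup.bot_or_exists_ne_one L).resolve_left fun h => by
    rw [h, Subgroup.card_bot] at hL
    exact (Fact.out : p.Prime).ne_one hL.symm

theorem line_inf {L L' : Subgroup B} (hL : Nat.card L = p) (hL' : Nat.card L' = p) (hne : L ≠ L') {u : B}
    (hu : u ∈ L) (hu' : u ∈ L') : u = 1 := by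
  by_contra h1
  exact hne ((line_gen hL hu h1).symm.trans (line_gen hL' hu' h1))

theorem line_sup {L : Subgroup B} (hB : Nat.card B = p ^ 2) (hL : Nat.card L = p) {b : B} (hb : b ∉ L) :
    L ⊔ zpowers b = ⊤ := by
  have hp : p.Prime := Fact.out
  refine Subgroup.eq_top_of_le_card _ ?_
  obtain ⟨i, hi, he⟩ := (Nat.dvd_prime_pow hp).1 (hB ▸ card_subgroup_dvd_card (L ⊔ zpowers b))
  rw [hB, he]
  refine Nat.pow_le_pow_right hp.pos ?_
  by_contra hlt
  have h2 : L = L ⊔ zpowers b := eq_of_le_of_card_ge le_sup_left (by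
    rw [he, hL]
    exact (Nat.pow_le_pow_right hp.pos (by omega : i ≤ 1)).trans (pow_one p).le)
  exact hb (h2.ge (mem_sup_right (mem_zpowers b)))

theorem decomp {L : Subgroup B} (hB : Nat.card B = p ^ 2) (hL : Nat.card L = p) {b : B} (hb : b ∉ L) (y : B) :
    ∃ l ∈ L, ∃ i : ℤ, y = l * b ^ i := by
  obtain ⟨l, hl, c, hc, e⟩ := mem_sup.1 ((line_sup hB hL hb).ge (mem_top y))
  obtain ⟨i, rfl⟩ := mem_zpowers_iff.1 hc
  exact ⟨l, hl, i, e.symm⟩

theorem exists_not_mem {L : Subgroup B} (hB : Nat.card B = p ^ 2) (hL : Nat.card L = p) : ∃ b, b ∉ L := by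
  by_contra h
  push Not at h
  rw [show L = ⊤ from eq_top_iff.2 fun b _ => h b, card_top, hB] at hL
  exact absurd hL (by nlinarith [(Fact.out : p.Prime).two_le])

/-- an automorphism is a power on an invariant line -/
theorem line_pow {L : Subgroup B} (hL : Nat.card L = p) (f : MulAut B) (hf : ∀ b ∈ L, f b ∈ L) :
    ∃ m : ℤ, ∀ b ∈ L, f b = b ^ m := by
  obtain ⟨u, hu, hu1⟩ := line_exists hL
  have hg := line_gen hL hu hu1
  obtain ⟨m, hm⟩ := mem_zpowers_iff.1 (hg.ge (hf u hu))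
  refine ⟨m, fun b hb => ?_⟩
  obtain ⟨n, rfl⟩ := mem_zpowers_iff.1 (hg.ge hb)
  rw [map_zpow, ← hm, ← zpow_mul, ← zpow_mul, mul_comm]

/-- power automorphisms are central -/
theorem pow_central {f : MulAut B} (hf : ∃ m : ℤ, ∀ b, f b = b ^ m) (g : MulAut B) : f * g = g * f := by
  obtain ⟨m, hm⟩ := hf
  refine MulEquiv.ext fun b => ?_
  show f (g b) = g (f b)
  rw [hm, hm, map_zpow]

/-- an automorphism fixing three lines is a power -/
theorem pow_of_three (hB : Nat.card B = p ^ 2) {L₁ L₂ L₃ : Subgroup B} (h₁ : Nat.card L₁ = p)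
    (h₂ : Nat.card L₂ = p) (h₃ : Nat.card L₃ = p) (h12 : L₁ ≠ L₂) (h13 : L₁ ≠ L₃) (h23 : L₂ ≠ L₃)
    (f : MulAut B) (f₁ : ∀ b ∈ L₁, f b ∈ L₁) (f₂ : ∀ b ∈ L₂, f b ∈ L₂) (f₃ : ∀ b ∈ L₃, f b ∈ L₃) :
    ∃ m : ℤ, ∀ b, f b = b ^ m := by
  obtain ⟨w, hw, hw1⟩ := line_exists h₂
  have hw1' : w ∉ L₁ := fun h => hw1 (line_inf h₁ h₂ h12 h hw)
  obtain ⟨u₃, hu₃, hu31⟩ := line_exists h₃
  obtain ⟨u₁, hu₁, i, e⟩ := decomp hB h₁ hw1' u₃
  set u₂ := w ^ i with hu₂def
  have hu₂ : u₂ ∈ L₂ := zpow_mem hw i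
  have hu11 : u₁ ≠ 1 := fun h => hu31 (line_inf h₂ h₃ h23 (by rw [e, h, one_mul]; exact hu₂) hu₃)
  have hu21 : u₂ ≠ 1 := fun h => hu31 (line_inf h₁ h₃ h13 (by rw [e, h, mul_one]; exact hu₁) hu₃)
  obtain ⟨a, ha⟩ := line_pow h₁ f f₁
  obtain ⟨b, hb⟩ := line_pow h₂ f f₂
  obtain ⟨c, hc⟩ := line_pow h₃ f f₃
  have h := hc u₃ hu₃
  rw [e, map_mul, ha u₁ hu₁, hb u₂ hu₂, mul_zpow] at h
  have key : u₁ ^ (a - c) = u₂ ^ (c - b) := by
    rw [zpow_sub, zpow_sub, ← div_eq_mul_inv, ← div_eq_mul_inv, div_eq_div_iff_mul_eq_mul, h, mul_comm]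
  have h0 : u₁ ^ (a - c) = 1 := line_inf h₁ h₂ h12 (zpow_mem hu₁ _) (key ▸ zpow_mem hu₂ _)
  have h0' : u₂ ^ (c - b) = 1 := key.symm.trans h0
  refine ⟨c, fun y => ?_⟩
  have hu₂' : u₂ ∉ L₁ := fun hh => hu21 (line_inf h₁ h₂ h12 hh hu₂)
  obtain ⟨l, hl, j, rfl⟩ := decomp hB h₁ hu₂' y
  obtain ⟨k, rfl⟩ := mem_zpowers_iff.1 ((line_gen h₁ hu₁ hu11).ge hl)
  rw [map_mul, map_zpow, map_zpow, ha u₁ hu₁, hb u₂ hu₂, mul_zpow]
  rw [zpow_sub, mul_inv_eq_one] at h0 h0'
  rw [h0, ← h0', zpow_comm u₁ c k, zpow_comm u₂ c j]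

/-- trivial on a line and on the quotient -/
theorem pow_eq_one_of_unipotent {L : Subgroup B} (he : ∀ b : B, b ^ p = 1) (f : MulAut B)
    (h1 : ∀ b ∈ L, f b = b) (h2 : ∀ b, f b / b ∈ L) : f ^ p = 1 := by
  refine MulEquiv.ext fun b => ?_
  have key : ∀ n : ℕ, (f ^ n) b = b * (f b / b) ^ n := by
    intro n
    induction n with
    | zero => simp
    | succ n ih =>
      rw [pow_succ', MulAut.mul_apply, ih, map_mul, map_pow, h1 _ (h2 b), pow_succ', ← mul_assoc, mul_div_cancel]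
  rw [key, he, mul_one, MulAut.one_apply]

theorem eq_one_of_two_power {f : MulAut B} (hp2 : p ≠ 2) {k : ℕ} (h : f ^ 2 ^ k = 1) (hp' : f ^ p = 1) :
    f = 1 :=
  orderOf_eq_one_iff.1 (Nat.eq_one_of_dvd_coprimes
    (((Nat.coprime_primes Nat.prime_two Fact.out).2 (Ne.symm hp2)).pow_left k)
    (orderOf_dvd_of_pow_eq_one h) (orderOf_dvd_of_pow_eq_one hp'))

/-- two automorphisms of an invariant line commute up to a unipotent one -/
theorem commutator_unipotent (hB : Nat.card B = p ^ 2) (he : ∀ b : B, b ^ p = 1) {L : Subgroup B}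
    (hL : Nat.card L = p) {f g : MulAut B} (hf : ∀ b ∈ L, f b ∈ L) (hg : ∀ b ∈ L, g b ∈ L) :
    (f * g * (g * f)⁻¹) ^ p = 1 := by
  obtain ⟨b₀, hb₀⟩ := exists_not_mem hB hL
  have quo : ∀ f : MulAut B, (∀ b ∈ L, f b ∈ L) → ∃ μ : ℤ, ∀ b, f b / b ^ μ ∈ L := by
    intro f hf
    obtain ⟨l, hl, μ, e⟩ := decomp hB hL hb₀ (f b₀)
    obtain ⟨m, hm⟩ := line_pow hL f hf
    refine ⟨μ, fun b => ?_⟩
    obtain ⟨l', hl', i, rfl⟩ := decomp hB hL hb₀ b
    rw [map_mul, map_zpow, e, hm l' hl', mul_zpow, mul_zpow,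
      show l' ^ m * (l ^ i * (b₀ ^ μ) ^ i) / (l' ^ μ * (b₀ ^ i) ^ μ) = l' ^ m * l ^ i / l' ^ μ by
        rw [← zpow_mul, ← zpow_mul, mul_comm i μ, div_eq_mul_inv, div_eq_mul_inv, _root_.mul_inv_rev]
        simp [mul_assoc, mul_left_comm]]
    exact div_mem (mul_mem (zpow_mem hl' m) (zpow_mem hl i)) (zpow_mem hl' μ)
  obtain ⟨μ, hμ⟩ := quo f hf
  obtain ⟨ν, hν⟩ := quo g hg
  obtain ⟨a, ha⟩ := line_pow hL f hf
  obtain ⟨c, hc⟩ := line_pow hL g hg
  refine pow_eq_one_of_unipotent (L := L) he _ (fun b hb => ?_) fun y => ?_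
  · obtain ⟨b', rfl⟩ := (g * f).surjective b
    have hb' : b' ∈ L := by
      have : Set.BijOn (g * f) (L : Set B) L := ((L : Set B).toFinite.injOn_iff_bijOn_of_mapsTo
        (fun z hz => hg _ (hf z hz))).1 (g * f).injective.injOn
      obtain ⟨z, hz, hze⟩ := this.2.2 hb
      rwa [← (g * f).injective hze]
    rw [MulAut.mul_apply, MulAut.inv_apply_self]
    show f (g b') = g (f b')
    rw [hc b' hb', ha b' hb', map_zpow, map_zpow, ha b' hb', hc b' hb', ← zpow_mul, ← zpow_mul, mul_comm]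
  · obtain ⟨b', rfl⟩ := (g * f).surjective y
    rw [MulAut.mul_apply, MulAut.inv_apply_self, MulAut.mul_apply, MulAut.mul_apply]
    have h1 : f (g b') / b' ^ (ν * μ) ∈ L := by
      have := mul_mem (hμ (g b')) (zpow_mem (hν b') μ)
      rwa [div_zpow, ← zpow_mul, div_mul_div_cancel] at this
    have h2 : g (f b') / b' ^ (μ * ν) ∈ L := by
      have := mul_mem (hν (f b')) (zpow_mem (hμ b') ν)
      rwa [div_zpow, ← zpow_mul, div_mul_div_cancel] at this
    rw [mul_comm μ ν] at h2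
    have := div_mem h1 h2
    rwa [div_div_div_cancel_right] at this

/-- a reducible Sylow `2`-subgroup acting on a plane meets the subgroup generated by odd elements trivially -/
theorem trivial_of_invariant (hp2 : p ≠ 2) (he : ∀ b : B, b ^ p = 1) {k : ℕ} (hk : k ≤ 2)
    (hB : Nat.card B = p ^ k) {M : Type v} [Group M] [Finite M] (χ : M →* MulAut B) (T : Sylow 2 M)
    (hinv : k ≤ 1 ∨ ∃ L : Subgroup B, L ≠ ⊥ ∧ L ≠ ⊤ ∧ ∀ t ∈ (T : Subgroup M), ∀ b ∈ L, χ t b ∈ L)
    {t : M} (ht : t ∈ (T : Subgroup M)) (hto : t ∈ closure {x : M | Odd (orderOf x)}) : χ t = 1 := by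
  classical
  haveI : Fact (Nat.Prime 2) := ⟨Nat.prime_two⟩
  haveI := mulAut_finite (B := B)
  let f := χ.rangeRestrict
  have hf : Function.Surjective f := χ.rangeRestrict_surjective
  let S : Sylow 2 χ.range := T.mapSurjective hf
  have hS2 : ∀ s ∈ (S : Subgroup χ.range), ∃ i, (s : MulAut B) ^ 2 ^ i = 1 := fun s hs => by
    obtain ⟨i, hi⟩ := S.2 ⟨s, hs⟩
    exact ⟨i, congrArg (fun z : S => ((z.1 : χ.range) : MulAut B)) hi⟩
  have hcase : (∀ a b : MulAut B, a * b = b * a) ∨ ∃ L : Subgroup B, Nat.card B = p ^ 2 ∧ Nat.card L = p ∧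
      ∀ s ∈ (S : Subgroup χ.range), ∀ b ∈ L, (s : MulAut B) b ∈ L := by
    rcases Nat.lt_or_ge 1 k with hk1 | hk1
    · obtain rfl : k = 2 := by omega
      obtain ⟨L, hL0, hL1, hL⟩ := hinv.resolve_left (by omega)
      refine Or.inr ⟨L, hB, ?_, ?_⟩
      · obtain ⟨i, hi, hc⟩ := (Nat.dvd_prime_pow Fact.out).1 (hB ▸ card_subgroup_dvd_card L)
        interval_cases i
        · exact absurd (card_eq_one.1 (hc.trans (pow_zero p))) hL0
        · exact hc.trans (pow_one p)
        · exact absurd (Subgroup.eq_top_of_card_eq _ (hc.trans hB.symm)) hL1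
      · rintro s ⟨z, hz, rfl⟩ b hb
        exact hL z hz b hb
    · refine Or.inl fun a b => ?_
      haveI : IsCyclic B := by
        rcases (show k = 0 ∨ k = 1 by omega) with rfl | rfl
        · haveI : Subsingleton B := (Nat.card_eq_one_iff_unique.1 (hB.trans (pow_zero p))).1
          infer_instance
        · exact isCyclic_of_prime_card (hB.trans (pow_one p))
      obtain ⟨m, hm⟩ := MonoidHom.map_cyclic a.toMonoidHom
      exact pow_central ⟨m, hm⟩ b
  have hSab : ∀ a ∈ (S : Subgroup χ.range), ∀ b ∈ (S : Subgroup χ.range), a * b = b * a := by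
    intro a ha b hb
    rcases hcase with h | ⟨L, hB2, hLc, hL⟩
    · exact Subtype.ext (h a b)
    have hmem : a * b * (b * a)⁻¹ ∈ (S : Subgroup χ.range) := mul_mem (mul_mem ha hb) (inv_mem (mul_mem hb ha))
    obtain ⟨i, hi⟩ := hS2 _ hmem
    refine Subtype.ext (mul_inv_eq_one.1 (eq_one_of_two_power hp2 hi ?_))
    exact commutator_unipotent hB2 he hLc (hL a ha) (hL b hb)
  have hodd : ∀ n : χ.range, n ∈ normalizer ((S : Subgroup χ.range) : Set χ.range) → Odd (orderOf n) →
      ∀ s ∈ (S : Subgroup χ.range), s * n = n * s := by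
    intro n hn hno s hs
    rcases hcase with h | ⟨L, hB2, hLc, hL⟩
    · exact Subtype.ext (h s n)
    by_cases hnL : ∀ b ∈ L, (n : MulAut B) b ∈ L
    · have hmem : n * s * (s * n)⁻¹ ∈ (S : Subgroup χ.range) := by
        rw [_root_.mul_inv_rev, ← mul_assoc]
        exact mul_mem ((mem_normalizer_iff.1 hn s).1 hs) (inv_mem hs)
      obtain ⟨i, hi⟩ := hS2 _ hmem
      exact (Subtype.ext (mul_inv_eq_one.1 (eq_one_of_two_power hp2 hi
        (commutator_unipotent hB2 he hLc hnL (hL s hs))))).symm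
    -- three invariant lines
    refine Subtype.ext (pow_central ?_ _)
    set nn := (n : MulAut B)
    have hcardmap : ∀ g : MulAut B, Nat.card (L.map g.toMonoidHom) = p := fun g => by
      rw [card_map_of_injective g.injective, hLc]
    have hfixed : ∀ g : χ.range, g ∈ normalizer ((S : Subgroup χ.range) : Set χ.range) →
        ∀ b ∈ L.map (g : MulAut B).toMonoidHom, (s : MulAut B) b ∈ L.map (g : MulAut B).toMonoidHom := by
      rintro g hg _ ⟨b, hb, rfl⟩
      have hgs : g⁻¹ * s * g ∈ (S : Subgroup χ.range) := by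
        have := (mem_normalizer_iff.1 (inv_mem hg) s).1 hs
        rwa [inv_inv] at this
      refine ⟨_, hL _ hgs b hb, ?_⟩
      show (g : MulAut B) (((g⁻¹ * s * g : χ.range) : MulAut B) b) = (s : MulAut B) ((g : MulAut B) b)
      rw [← MulAut.mul_apply, ← MulAut.mul_apply]
      push_cast
      rw [← mul_assoc, mul_inv_cancel_left]
    have hne1 : L ≠ L.map nn.toMonoidHom := fun h => hnL fun b hb => h.ge (mem_map_of_mem _ hb)
    have hne2 : L ≠ L.map (nn * nn).toMonoidHom := by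
      intro h
      obtain ⟨j, hj⟩ := hno
      have hsq : ∀ i : ℕ, ∀ b ∈ L, ((nn * nn) ^ i) b ∈ L := by
        intro i
        induction i with
        | zero => exact fun b hb => hb
        | succ i ih =>
          exact fun b hb => by
            rw [pow_succ']
            exact h.ge (mem_map_of_mem (nn * nn).toMonoidHom (ih b hb))
      refine hnL fun b hb => ?_
      have h1 : nn = ((nn * nn) ^ (j + 1)) := by
        have h2 : nn ^ orderOf n = 1 := congrArg Subtype.val (pow_orderOf_eq_one n)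
        rw [← pow_two, ← pow_mul, show 2 * (j + 1) = orderOf n + 1 by omega, pow_succ, h2, one_mul]
      rw [h1]
      exact hsq _ b hb
    have hne3 : L.map nn.toMonoidHom ≠ L.map (nn * nn).toMonoidHom := by
      intro h
      refine hne1 (Subgroup.map_injective (f := nn.toMonoidHom) nn.injective ?_)
      rw [Subgroup.map_map]
      exact h
    refine pow_of_three hB2 hLc (hcardmap _) (hcardmap _) hne1 hne2 hne3 (s : MulAut B) (hL s hs) (hfixed n hn) ?_
    exact hfixed (n * n) (mul_mem hn hn)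
  have hNC : normalizer ((S : Subgroup χ.range) : Set χ.range) ≤ centralizer ((S : Subgroup χ.range) : Set χ.range) := by
    intro g hg
    refine mem_centralizer_iff.2 fun s hs => ?_
    obtain ⟨i, m, hm, he'⟩ := Nat.exists_eq_pow_mul_and_not_dvd (orderOf_pos g).ne' 2 (by norm_num)
    have hg2 : g ^ m ∈ (S : Subgroup χ.range) := by
      have hz : IsPGroup 2 (zpowers (g ^ m)) := IsPGroup.of_card (n := i) (by
        rw [Nat.card_zpowers, orderOf_pow' g (by rintro rfl; simp at hm), he',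
          Nat.gcd_eq_right (Dvd.intro_left _ rfl), Nat.mul_div_cancel _ (Nat.pos_of_ne_zero (by rintro rfl; simp at hm))])
      have hsup := S.3 (hz.to_sup_of_normal_right' S.2 (zpowers_le.2 (pow_mem hg m))) le_sup_right
      exact hsup.le (mem_sup_left (mem_zpowers _))
    have hgo : Odd (orderOf (g ^ 2 ^ i)) := by
      rw [orderOf_pow' g (pow_ne_zero _ two_ne_zero), he', Nat.gcd_eq_right (Dvd.intro _ rfl),
        Nat.mul_div_cancel_left _ (pow_pos two_pos i)]
      exact Nat.odd_iff.2 (by omega)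
    have hc1 : Commute s (g ^ m) := hSab s hs _ hg2
    have hc2 : Commute s (g ^ 2 ^ i) := hodd _ (pow_mem hg _) hgo s hs
    obtain ⟨a, b, hab⟩ := (Int.isCoprime_iff_gcd_eq_one.2 (show Int.gcd (m : ℤ) ((2 ^ i : ℕ) : ℤ) = 1 by
      rw [Int.gcd_natCast_natCast]
      exact ((Nat.prime_two.coprime_iff_not_dvd.2 hm).pow_left i).symm) : IsCoprime (m : ℤ) ((2 ^ i : ℕ) : ℤ))
    have hcm := (hc1.zpow_right a).mul_right (hc2.zpow_right b)
    rw [← zpow_natCast g m, ← zpow_natCast g (2 ^ i), ← zpow_mul, ← zpow_mul, ← zpow_add, mul_comm (m : ℤ),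
      mul_comm ((2 ^ i : ℕ) : ℤ), hab, zpow_one] at hcm
    exact hcm.eq
  set K := (MonoidHom.transferSylow S hNC).ker with hK
  have hle : closure {x : M | Odd (orderOf x)} ≤ K.comap f := by
    refine (closure_le _).2 fun x hx => ?_
    show f x ∈ K
    rw [hK, MonoidHom.mem_ker]
    set y := MonoidHom.transferSylow S hNC (f x)
    obtain ⟨i, hi⟩ := S.2 y
    exact orderOf_eq_one_iff.1 (Nat.eq_one_of_dvd_coprimes
      (((show Odd (orderOf x) from hx).coprime_two_right).pow_right i)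
      ((orderOf_map_dvd _ _).trans (orderOf_map_dvd f x)) (orderOf_dvd_of_pow_eq_one hi))
  have h1 : f t ∈ K ⊓ (S : Subgroup χ.range) := ⟨hle hto, mem_map_of_mem f ht⟩
  rw [(MonoidHom.ker_transferSylow_disjoint S hNC (S : Subgroup χ.range) S.2).eq_bot, mem_bot] at h1
  exact congrArg Subtype.val h1

/-- an element of `p`-power order not centralising a normalised `2`-group -/
theorem moved (hp2 : p ≠ 2) (he : ∀ b : B, b ^ p = 1) (hB : Nat.card B = p ^ 2) {W : Subgroup (MulAut B)}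
    (hW : IsPGroup 2 W) {x : MulAut B} {j : ℕ} (hx : x ^ p ^ j = 1) (hxW : x ∈ normalizer (W : Set (MulAut B)))
    {w₀ : MulAut B} (hw₀ : w₀ ∈ W) (hne : x * w₀ ≠ w₀ * x) :
    p ≠ 5 ∧ (p = 3 → (∀ L L' : Subgroup B, Nat.card L = p → Nat.card L' = p →
        ∃ w ∈ W, L.map (MulEquiv.toMonoidHom w) = L') ∧ ∃ w ∈ W, ∀ b, w b = b⁻¹) := by
  classical
  haveI := mulAut_finite (B := B)
  haveI : Fact (Nat.Prime 2) := ⟨Nat.prime_two⟩
  have hp : p.Prime := Fact.out
  let d : B →* B := MonoidHom.mk' (fun b => x b / b) fun a b => by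
    rw [map_mul, mul_div_mul_comm]
  have hd : ∀ b, b ∈ d.ker ↔ x b = b := fun b => (MonoidHom.mem_ker).trans div_eq_one
  have hx1 : x ≠ 1 := fun h => hne (by rw [h, one_mul, mul_one])
  have hpX : IsPGroup p (zpowers x) := fun z => by
    obtain ⟨n, hn⟩ := mem_zpowers_iff.1 z.2
    refine ⟨j, Subtype.ext ?_⟩
    push_cast
    rw [← hn, ← zpow_natCast, ← zpow_mul, mul_comm, zpow_mul, zpow_natCast, hx, one_zpow]
  have hC0 : d.ker ≠ ⊥ := by
    intro hker
    have h := hpX.exists_fixed_point_of_prime_dvd_card_of_fixed_point B (hB ▸ dvd_pow_self p two_ne_zero)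
      (a := 1) (by intro z; exact map_one (z : MulAut B))
    obtain ⟨b, hb, hb1⟩ := h
    have hxb : x b = b := hb ⟨x, mem_zpowers x⟩
    exact hb1 ((mem_bot.1 (hker ▸ (hd b).2 hxb : b ∈ (⊥ : Subgroup B))).symm)
  have hC1 : d.ker ≠ ⊤ := fun h => hx1 (MulEquiv.ext fun b => (hd b).1 (h ▸ mem_top b))
  set C := d.ker with hC
  have hCc : Nat.card C = p := by
    obtain ⟨i, hi, hc⟩ := (Nat.dvd_prime_pow hp).1 (hB ▸ card_subgroup_dvd_card C)
    interval_cases i
    · exact absurd (card_eq_one.1 (hc.trans (pow_zero p))) hC0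
    · exact hc.trans (pow_one p)
    · exact absurd (Subgroup.eq_top_of_card_eq _ (hc.trans hB.symm)) hC1
  obtain ⟨b₁, hb₁⟩ := exists_not_mem hB hCc
  set z := x b₁ / b₁ with hz
  have hz1 : z ≠ 1 := fun h => hb₁ ((hd b₁).2 (div_eq_one.1 h))
  have hzC : z ∈ C := by
    have hr : Nat.card d.range = p := by
      have h := card_eq_card_quotient_mul_card_subgroup C
      rw [Nat.card_congr (QuotientGroup.quotientKerEquivRange d).toEquiv, hCc, hB, sq] at h
      exact Nat.eq_of_mul_eq_mul_right hp.pos h.symm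
    have hst : ∀ y ∈ d.range, x y ∈ d.range := by
      rintro _ ⟨y, rfl⟩
      exact ⟨x y, (map_div x (x y) y).symm⟩
    obtain ⟨m, hm⟩ := line_pow hr x hst
    have hzr : z ∈ d.range := ⟨b₁, rfl⟩
    have hzo : orderOf z = p := orderOf_eq_prime (he z) hz1
    refine (hd z).2 ((hm z hzr).trans ?_)
    have key : ∀ n : ℕ, (x ^ n) z = z ^ (m ^ n) := by
      intro n
      induction n with
      | zero => simp
      | succ n ih => rw [pow_succ', MulAut.mul_apply, ih, map_zpow, hm z hzr, ← zpow_mul, pow_succ']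
    have h1 := key (p ^ j)
    rw [hx, MulAut.one_apply, eq_comm] at h1
    rw [← mul_inv_eq_one, ← zpow_sub_one, ← orderOf_dvd_iff_zpow_eq_one, hzo] at h1
    have h2 : (m : ZMod p) = 1 := by
      have h3 : ((m ^ p ^ j - 1 : ℤ) : ZMod p) = 0 := (ZMod.intCast_zmod_eq_zero_iff_dvd _ p).2 h1
      push_cast at h3
      rwa [ZMod.pow_card_pow, sub_eq_zero] at h3
    rw [← mul_inv_eq_one, ← zpow_sub_one, ← orderOf_dvd_iff_zpow_eq_one, hzo, ← ZMod.intCast_zmod_eq_zero_iff_dvd]
    push_cast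
    rw [h2, sub_self]
  have hpow : ∀ n : ℕ, (x ^ n) b₁ = b₁ * z ^ n := by
    intro n
    induction n with
    | zero => simp
    | succ n ih =>
      rw [pow_succ', MulAut.mul_apply, ih, map_mul, map_pow, (hd z).1 hzC, pow_succ', ← mul_assoc, hz,
        mul_div_cancel]
  have hzg : zpowers z = C := line_gen hCc hzC hz1
  have hb₁1 : b₁ ≠ 1 := fun h => hb₁ (h ▸ one_mem _)
  set l₁ := zpowers b₁ with hl₁
  have hl₁c : Nat.card l₁ = p := by rw [hl₁, Nat.card_zpowers]; exact orderOf_eq_prime (he b₁) hb₁1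
  -- the other lines are the translates of one of them
  have hother : ∀ L : Subgroup B, Nat.card L = p → L ≠ C → ∃ n : ℕ, L = l₁.map (MulEquiv.toMonoidHom (x ^ n)) := by
    intro L hL hLC
    obtain ⟨u, hu, hu1⟩ := line_exists hL
    have huC : u ∉ C := fun h => hu1 (line_inf hL hCc hLC hu h)
    obtain ⟨l, hl, i, e⟩ := decomp hB hCc hb₁ u
    have hi : ¬ (p : ℤ) ∣ i := fun hd' => huC (by
      rw [e, orderOf_dvd_iff_zpow_eq_one.1 (by rwa [orderOf_eq_prime (he b₁) hb₁1]), mul_one]; exact hl)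
    obtain ⟨a, c, hac⟩ := (Nat.prime_iff_prime_int.1 hp).coprime_iff_not_dvd.2 hi
    have hu' : u ^ c = l ^ c * b₁ := by
      rw [e, mul_zpow, ← zpow_mul, show i * c = 1 + (p : ℤ) * (-a) by linarith, zpow_add, zpow_one, zpow_mul,
        zpow_natCast, he, one_zpow, mul_one]
    obtain ⟨n, hn⟩ := (mem_powers_iff_mem_zpowers.2 (hzg.ge (zpow_mem hl c)) : _ ∈ Submonoid.powers z)
    refine ⟨n, ?_⟩
    have hmem : (x ^ n) b₁ ∈ L := by
      rw [hpow, show z ^ n = l ^ c from hn, mul_comm, ← hu']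
      exact zpow_mem hu c
    rw [MonoidHom.map_zpowers]
    refine (line_gen hL hmem fun h => hb₁1 ((x ^ n).injective (h.trans (map_one _).symm))).symm
  let Lset : Set (Subgroup B) := {L | Nat.card L = p}
  have hcardLines : Nat.card Lset = p + 1 := by
    let f : Option (Fin p) → Lset := fun o => o.elim ⟨C, hCc⟩ fun n =>
      ⟨l₁.map (MulEquiv.toMonoidHom (x ^ (n : ℕ))), (card_map_of_injective (x ^ (n : ℕ)).injective).trans hl₁c⟩
    have hnC : ∀ n : ℕ, l₁.map (MulEquiv.toMonoidHom (x ^ n)) ≠ C := fun n h => by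
      refine hb₁ ?_
      have : (x ^ n) b₁ ∈ C := h ▸ mem_map_of_mem (MulEquiv.toMonoidHom (x ^ n)) (mem_zpowers b₁)
      rw [hpow] at this
      exact (mul_mem_cancel_right (pow_mem hzC n)).1 this
    have hf : Function.Bijective f := by
      constructor
      · rintro (_ | a) (_ | b) h
        · rfl
        · exact absurd (congrArg Subtype.val h).symm (hnC b)
        · exact absurd (congrArg Subtype.val h) (hnC a)
        · have h' := congrArg Subtype.val h
          simp only [f, Option.elim_some] at h'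
          have hmem : (x ^ (a : ℕ)) b₁ ∈ l₁.map (MulEquiv.toMonoidHom (x ^ (b : ℕ))) :=
            h' ▸ mem_map_of_mem (MulEquiv.toMonoidHom (x ^ (a : ℕ))) (mem_zpowers b₁)
          obtain ⟨_, ⟨k, rfl⟩, hk⟩ := hmem
          simp only [MulEquiv.coe_toMonoidHom, map_zpow, hpow, mul_zpow] at hk
          have e1 : b₁ ^ (k - 1) = z ^ (a : ℕ) * ((z ^ (b : ℕ)) ^ k)⁻¹ := by
            rw [zpow_sub_one, eq_mul_inv_iff_mul_eq, mul_right_comm, hk, mul_inv_eq_iff_eq_mul, mul_comm]
          have h0 : b₁ ^ (k - 1) = 1 := line_inf hl₁c hCc (fun h => hb₁ (h ▸ mem_zpowers b₁))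
            (zpow_mem (mem_zpowers b₁) _) (e1 ▸ mul_mem (pow_mem hzC _) (inv_mem (zpow_mem (pow_mem hzC _) _)))
          have hk1 : b₁ ^ k = b₁ := by rwa [zpow_sub_one, mul_inv_eq_one] at h0
          have hkz : (z ^ (b : ℕ)) ^ k = z ^ (b : ℕ) := by
            have h1 : (p : ℤ) ∣ k - 1 := by
              rw [← orderOf_eq_prime (he b₁) hb₁1]; exact orderOf_dvd_iff_zpow_eq_one.2 h0
            obtain ⟨r, hr⟩ := h1
            rw [show k = 1 + (p : ℤ) * r by omega, zpow_add, zpow_one, zpow_mul, zpow_natCast, he, one_zpow, mul_one]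
          rw [hk1, hkz, mul_left_cancel_iff] at hk
          have := (pow_inj_mod.1 hk)
          rw [orderOf_eq_prime (he z) hz1, Nat.mod_eq_of_lt b.2, Nat.mod_eq_of_lt a.2] at this
          exact congrArg some (Fin.ext this.symm)
      · rintro ⟨L, hL⟩
        by_cases hLC : L = C
        · exact ⟨none, Subtype.ext hLC.symm⟩
        obtain ⟨n, hn⟩ := hother L hL hLC
        refine ⟨some ⟨n % p, Nat.mod_lt _ hp.pos⟩, Subtype.ext ?_⟩
        simp only [f, Option.elim_some, hn]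
        rw [hl₁, MonoidHom.map_zpowers, MonoidHom.map_zpowers]
        congr 1
        show (x ^ (n % p)) b₁ = (x ^ n) b₁
        rw [hpow, hpow]
        congr 1
        rw [pow_eq_pow_iff_modEq, orderOf_eq_prime (he z) hz1]
        exact Nat.mod_modEq n p
    rw [← Nat.card_congr (Equiv.ofBijective f hf), Nat.card_eq_fintype_card, Fintype.card_option, Fintype.card_fin]
  letI : MulAction W Lset :=
    { smul := fun w L => ⟨L.1.map (MulEquiv.toMonoidHom (w : MulAut B)),
        (card_map_of_injective (w : MulAut B).injective).trans L.2⟩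
      one_smul := fun L => Subtype.ext (Subgroup.map_id L.1)
      mul_smul := fun a b L => by
        refine Subtype.ext ?_
        show L.1.map (MulEquiv.toMonoidHom ((a : MulAut B) * (b : MulAut B))) =
          (L.1.map (MulEquiv.toMonoidHom (b : MulAut B))).map (MulEquiv.toMonoidHom (a : MulAut B))
        rw [Subgroup.map_map]
        rfl }
  have hsmul : ∀ (w : W) (L : Lset), ((w • L : Lset) : Subgroup B) =
      L.1.map (MulEquiv.toMonoidHom (w : MulAut B)) := fun _ _ => rfl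
  let C' : Lset := ⟨C, hCc⟩
  have hxstep : ∀ (w : W) (L : Lset) (n : ℕ), ∃ w' : W, ((w' • L : Lset) : Subgroup B) =
      ((L.1.map (MulEquiv.toMonoidHom (x⁻¹ ^ n))).map (MulEquiv.toMonoidHom (w : MulAut B))).map
        (MulEquiv.toMonoidHom (x ^ n)) := by
    intro w L n
    refine ⟨⟨x ^ n * w * (x ^ n)⁻¹, (mem_normalizer_iff.1 (pow_mem hxW n) _).1 w.2⟩, ?_⟩
    rw [hsmul, Subgroup.map_map, Subgroup.map_map, inv_pow]
    rfl
  by_cases hfix : ∀ w : W, w • C' = C'
  · -- then everything is fixed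
    exfalso
    refine hne ((pow_central ?_ x).symm)
    let Oth := {L : Lset // L ≠ C'}
    letI : MulAction W Oth :=
      { smul := fun w L => ⟨w • L.1, fun h => L.2 ((smul_left_cancel_iff w).1 (h.trans (hfix w).symm))⟩
        one_smul := fun L => Subtype.ext (one_smul _ _)
        mul_smul := fun a b L => Subtype.ext (mul_smul _ _ _) }
    have hOth : Nat.card Oth = p := by
      haveI := Fintype.ofFinite Lset
      rw [Nat.card_eq_fintype_card, Fintype.card_subtype_compl, Fintype.card_subtype_eq, ← Nat.card_eq_fintype_card,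
        hcardLines, Nat.add_sub_cancel]
    obtain ⟨⟨L₀, hL₀⟩, hL₀fix⟩ := hW.nonempty_fixed_point_of_prime_not_dvd_card Oth (by
      rw [hOth, Nat.prime_dvd_prime_iff_eq Nat.prime_two hp]; exact Ne.symm hp2)
    have hall : ∀ (w : W) (L : Lset), w • L = L := by
      intro w L
      by_cases hLC : L = C'
      · rw [hLC]; exact hfix w
      obtain ⟨n, hn⟩ := hother L.1 L.2 fun h => hLC (Subtype.ext h)
      obtain ⟨m, hm⟩ := hother L₀.1 L₀.2 fun h => hL₀ (Subtype.ext h)
      -- translate from the fixed line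
      obtain ⟨a, ha⟩ : ∃ a : ℕ, L.1 = L₀.1.map (MulEquiv.toMonoidHom (x ^ a)) := by
        refine ⟨n + (p ^ j - 1) * m, ?_⟩
        rw [hn, hm, Subgroup.map_map]
        congr 1
        show MulEquiv.toMonoidHom (x ^ n) = MulEquiv.toMonoidHom (x ^ (n + (p ^ j - 1) * m) * x ^ m)
        congr 1
        rw [← pow_add, show n + (p ^ j - 1) * m + m = n + p ^ j * m by
          have := Nat.one_le_pow j p hp.pos
          rw [add_assoc]; congr 1; rw [← Nat.succ_mul]; congr 1; omega, pow_add, pow_mul, hx, one_pow, mul_one]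
      have hwx : ((x ^ a)⁻¹ * (w : MulAut B) * x ^ a) ∈ W := by
        have := (mem_normalizer_iff.1 (inv_mem (pow_mem hxW a)) _).1 w.2
        rwa [inv_inv] at this
      have h := congrArg (fun Z : Oth => (Z.1.1).map (MulEquiv.toMonoidHom (x ^ a))) (hL₀fix ⟨_, hwx⟩)
      refine Subtype.ext ?_
      rw [hsmul, ha, Subgroup.map_map]
      change (L₀.1.map _).map _ = L₀.1.map _ at h
      rw [Subgroup.map_map] at h
      refine Eq.trans ?_ h
      congr 1
      refine MonoidHom.ext fun b => ?_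
      show (w : MulAut B) ((x ^ a) b) = (x ^ a) (((x ^ a)⁻¹ * (w : MulAut B) * x ^ a) b)
      rw [MulAut.mul_apply, MulAut.mul_apply, MulAut.apply_inv_self]
    have hl₁C : l₁ ≠ C := fun h => hb₁ (h ▸ mem_zpowers b₁)
    set l₂ := l₁.map (MulEquiv.toMonoidHom x) with hl₂
    have hl₂c : Nat.card l₂ = p := (card_map_of_injective x.injective).trans hl₁c
    have hxb₁ : x b₁ = b₁ * z := by rw [hz, mul_div_cancel]
    have hl₂C : l₂ ≠ C := fun h => hb₁ ((mul_mem_cancel_right hzC).1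
      (hxb₁ ▸ h ▸ mem_map_of_mem (MulEquiv.toMonoidHom x) (mem_zpowers b₁)))
    have hl12 : l₁ ≠ l₂ := fun h => hz1 (line_inf hl₁c hCc hl₁C
      ((mul_mem_cancel_left (mem_zpowers b₁)).1 ((congrArg (· ∈ zpowers b₁) hxb₁).mp (h.ge (mem_map_of_mem (MulEquiv.toMonoidHom x) (mem_zpowers b₁)))))
      hzC)
    have hmemfix : ∀ L : Subgroup B, Nat.card L = p → ∀ b ∈ L, w₀ b ∈ L := fun L hL b hb => by
      have h := congrArg Subtype.val (hall ⟨w₀, hw₀⟩ ⟨L, hL⟩)
      rw [hsmul] at h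
      exact h.le (mem_map_of_mem (MulEquiv.toMonoidHom w₀) hb)
    exact pow_of_three hB hCc hl₁c hl₂c hl₁C.symm hl₂C.symm hl12 w₀ (hmemfix C hCc) (hmemfix l₁ hl₁c)
      (hmemfix l₂ hl₂c)
  -- transitivity
  have htrans : MulAction.orbit W C' = Set.univ := by
    push Not at hfix
    obtain ⟨w, hw⟩ := hfix
    obtain ⟨m, hm⟩ := hother _ (w • C').2 fun h => hw (Subtype.ext h)
    refine Set.eq_univ_iff_forall.2 fun L => ?_
    by_cases hLC : L = C'
    · exact ⟨1, (one_smul W C').trans hLC.symm⟩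
    obtain ⟨n, hn⟩ := hother L.1 L.2 fun h => hLC (Subtype.ext h)
    obtain ⟨a, ha⟩ : ∃ a : ℕ, x ^ a * x ^ m = x ^ n := by
      refine ⟨n + (p ^ j - 1) * m, ?_⟩
      rw [← pow_add, show n + (p ^ j - 1) * m + m = n + p ^ j * m by
        have := Nat.one_le_pow j p hp.pos
        rw [add_assoc]; congr 1; rw [← Nat.succ_mul]; congr 1; omega, pow_add, pow_mul, hx, one_pow, mul_one]
    obtain ⟨w', hw'⟩ := hxstep w C' a
    refine ⟨w', Subtype.ext ?_⟩
    show ((w' • C' : Lset) : Subgroup B) = L.1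
    rw [hw', hn, ← ha]
    have hCfix : C.map (MulEquiv.toMonoidHom (x⁻¹ ^ a)) = C := by
      refine SetLike.ext fun b => Iff.intro ?_ fun hb => Subgroup.mem_map.2 ⟨b, hb, ?_⟩
      · rintro ⟨c, hc, rfl⟩
        show (x⁻¹ ^ a) c ∈ C
        suffices ∀ a : ℕ, (x⁻¹ ^ a) c = c from (this a).symm ▸ hc
        intro a
        induction a with
        | zero => simp
        | succ a ih =>
          rw [pow_succ', MulAut.mul_apply, ih]
          conv_lhs => rw [← (hd c).1 hc]
          exact MulAut.inv_apply_self _ x c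
      · show (x⁻¹ ^ a) b = b
        suffices ∀ a : ℕ, (x⁻¹ ^ a) b = b from this a
        intro a
        induction a with
        | zero => simp
        | succ a ih =>
          rw [pow_succ', MulAut.mul_apply, ih]
          conv_lhs => rw [← (hd b).1 hb]
          exact MulAut.inv_apply_self _ x b
    show ((C.map _).map _).map _ = _
    rw [hCfix, ← hsmul w C', hm, Subgroup.map_map]
    try rfl
  refine ⟨fun h5 => ?_, fun h3 => ⟨fun L L' hL hL' => ?_, ?_⟩⟩
  · have h := MulAction.index_stabilizer (G := W) C'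
    rw [htrans, Set.ncard_univ, hcardLines] at h
    obtain ⟨i, hi⟩ := hW.index (MulAction.stabilizer W C')
    rw [hi, h5] at h
    rcases (show i < 3 ∨ 3 ≤ i by omega) with hi3 | hi3
    · interval_cases i <;> norm_num at h
    · have := Nat.pow_le_pow_right two_pos hi3
      omega
  · have h1 : (⟨L, hL⟩ : Lset) ∈ MulAction.orbit W C' := htrans ▸ Set.mem_univ _
    have h2 : (⟨L', hL'⟩ : Lset) ∈ MulAction.orbit W C' := htrans ▸ Set.mem_univ _
    obtain ⟨a, ha⟩ := h1
    obtain ⟨b, hb⟩ := h2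
    refine ⟨((b * a⁻¹ : W) : MulAut B), (b * a⁻¹).2, ?_⟩
    have h : (b * a⁻¹) • (⟨L, hL⟩ : Lset) = ⟨L', hL'⟩ := by
      rw [← ha, mul_smul, inv_smul_smul]; exact hb
    exact (hsmul (b * a⁻¹) ⟨L, hL⟩).symm.trans (congrArg Subtype.val h)
  · haveI : Nontrivial W := ⟨⟨⟨w₀, hw₀⟩, 1, fun h => hne (by
      rw [show w₀ = 1 from congrArg Subtype.val h, one_mul, mul_one])⟩⟩
    haveI := hW.center_nontrivial
    obtain ⟨c, hc, hc2⟩ : ∃ c : center W, c ≠ 1 ∧ c ^ 2 = 1 := by
      obtain ⟨i, hi⟩ := (hW.to_subgroup (center W)).exists_card_eq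
      have hi0 : i ≠ 0 := fun h => by
        rw [h, pow_zero] at hi
        exact absurd hi (Finite.one_lt_card.ne')
      obtain ⟨c, hc⟩ := exists_prime_orderOf_dvd_card' 2 (hi ▸ dvd_pow_self 2 hi0)
      exact ⟨c, fun h => by rw [h, orderOf_one] at hc; norm_num at hc, hc ▸ pow_orderOf_eq_one c⟩
    set w : MulAut B := ((c : W) : MulAut B) with hw
    have hww : w * w = 1 := by
      rw [← pow_two, hw]
      exact congrArg (fun z : center W => ((z : W) : MulAut B)) hc2
    have hw1 : w ≠ 1 := fun h => hc (Subtype.ext (Subtype.ext h))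
    refine ⟨w, (c : W).2, ?_⟩
    by_contra hcon
    push Not at hcon
    obtain ⟨b, hb⟩ := hcon
    set u := b * w b
    have hu : u ≠ 1 := fun h => hb (eq_inv_of_mul_eq_one_right h)
    have huw : w u = u := by
      rw [map_mul, ← MulAut.mul_apply, hww, MulAut.one_apply, mul_comm]
    let Lu : Lset := ⟨zpowers u, by
      show Nat.card (zpowers u) = p
      rw [Nat.card_zpowers]; exact orderOf_eq_prime (he u) hu⟩
    have hfixu : (c : W) • Lu = Lu := Subtype.ext (by
      rw [hsmul, MonoidHom.map_zpowers]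
      exact congrArg zpowers huw)
    have hall : ∀ L : Lset, (c : W) • L = L := by
      intro L
      have h1 : Lu ∈ MulAction.orbit W C' := htrans ▸ Set.mem_univ _
      have h2 : L ∈ MulAction.orbit W C' := htrans ▸ Set.mem_univ _
      obtain ⟨a, ha⟩ := h1
      obtain ⟨a', ha'⟩ := h2
      have hL : L = (a' * a⁻¹) • Lu := by rw [← ha, mul_smul, inv_smul_smul]; exact ha'.symm
      rw [hL, ← mul_smul, ← mem_center_iff.1 c.2 (a' * a⁻¹), mul_smul, hfixu]
    have hl₁C : l₁ ≠ C := fun h => hb₁ (h ▸ mem_zpowers b₁)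
    set l₂ := l₁.map (MulEquiv.toMonoidHom x) with hl₂
    have hl₂c : Nat.card l₂ = p := (card_map_of_injective x.injective).trans hl₁c
    have hxb₁ : x b₁ = b₁ * z := by rw [hz, mul_div_cancel]
    have hl₂C : l₂ ≠ C := fun h => hb₁ ((mul_mem_cancel_right hzC).1
      (hxb₁ ▸ h ▸ mem_map_of_mem (MulEquiv.toMonoidHom x) (mem_zpowers b₁)))
    have hl12 : l₁ ≠ l₂ := fun h => hz1 (line_inf hl₁c hCc hl₁C
      ((mul_mem_cancel_left (mem_zpowers b₁)).1 ((congrArg (· ∈ zpowers b₁) hxb₁).mp (h.ge (mem_map_of_mem (MulEquiv.toMonoidHom x) (mem_zpowers b₁)))))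
      hzC)
    have hmemfix : ∀ L : Subgroup B, Nat.card L = p → ∀ y ∈ L, w y ∈ L := fun L hL y hy => by
      have h := congrArg Subtype.val (hall ⟨L, hL⟩)
      rw [hsmul] at h
      exact h.le (mem_map_of_mem (MulEquiv.toMonoidHom w) hy)
    obtain ⟨m, hm⟩ := pow_of_three hB hCc hl₁c hl₂c hl₁C.symm hl₂C.symm hl12 w (hmemfix C hCc) (hmemfix l₁ hl₁c)
      (hmemfix l₂ hl₂c)
    refine hw1 (MulEquiv.ext fun y => ?_)
    rw [MulAut.one_apply, hm y]
    have hmu : u ^ (m - 1) = 1 := by rw [zpow_sub_one, ← hm u, huw, mul_inv_cancel]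
    obtain ⟨r, hr⟩ := orderOf_dvd_iff_zpow_eq_one.2 hmu
    rw [orderOf_eq_prime (he u) hu] at hr
    rw [show m = 1 + (p : ℤ) * r by omega, zpow_add, zpow_one, zpow_mul, zpow_natCast, he, one_zpow, mul_one]

end Cfsg.Lib.QTCentZ
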