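import Cfsg.Agent.QTKE.CentZ.Basic
import Cfsg.Agent.QTKE.CentZ.Lines
import Cfsg.Agent.QTKE.Solv.Setting
import Cfsg.Agent.OddLocal.SmallAction
import Cfsg.Agent.Coprime.Fitting

/-!
An element of `T` inside the subgroup generated by elements of odd order of a solvable member `M` of `ℋ(T)`,
and outside `O₂(M)`, moves a member of `Ξ(G, T)` normal in `M`.
-/

set_option autoImplicit false
set_option linter.unusedSectionVars false
set_option linter.style.haveILetI false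

namespace Cfsg.Lib.QTCentZ

open Subgroup Cfsg.Lib.QTSolv
open scoped commutatorElement

universe u

variable {G : Type u} [Group G] [Finite G]

/-- automorphisms of a quotient by a characteristic subgroup -/
def quotAut {P : Type u} [Group P] (K : Subgroup P) [K.Characteristic] : MulAut P →* MulAut (P ⧸ K) where
  toFun α := QuotientGroup.congr K K α (characteristic_iff_map_eq.1 inferInstance α)
  map_one' := MulEquiv.ext fun x => by
    induction x using QuotientGroup.induction_on with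
    | H y => rfl
  map_mul' α β := MulEquiv.ext fun x => by
    induction x using QuotientGroup.induction_on with
    | H y => rfl

theorem quotAut_apply {P : Type u} [Group P] (K : Subgroup P) [K.Characteristic] (α : MulAut P) (x : P) :
    quotAut K α (x : P ⧸ K) = ((α x : P) : P ⧸ K) := rfl

/-- the Frattini quotient of the odd quotient -/
abbrev frQ (Y : Subgroup G) : Type u := quo Y ⧸ frattini (quo Y)

/-- the action on the Frattini quotient -/
def chi (Y : Subgroup G) : ↥(normalizer (Y : Set G)) →* MulAut (frQ Y) :=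
  (quotAut (frattini (quo Y))).comp (act Y)

theorem chi_apply (Y : Subgroup G) (g : ↥(normalizer (Y : Set G))) (y : ↥Y) :
    chi Y g ((y : quo Y) : frQ Y) =
      (((⟨(g : G) * y * (g : G)⁻¹, (mem_normalizer_iff.1 g.2 y).1 y.2⟩ : ↥Y) : quo Y) : frQ Y) := rfl

theorem chi_eq_one_iff (Y : Subgroup G) (g : ↥(normalizer (Y : Set G))) :
    chi Y g = 1 ↔ ∀ y ∈ Y, ⁅y, (g : G)⁆ ∈ Cfsg.twoPhiCore Y := by
  have key : ∀ y : ↥Y, chi Y g ((y : quo Y) : frQ Y) = ((y : quo Y) : frQ Y) ↔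
      ⁅(y : G), (g : G)⁆ ∈ Cfsg.twoPhiCore Y := by
    intro y
    have hm : ⁅(y : G), (g : G)⁆ ∈ Y := by
      rw [show ⁅(y : G), (g : G)⁆ = y * ((g : G) * (y : G)⁻¹ * (g : G)⁻¹) by rw [commutatorElement_def]; group]
      exact mul_mem y.2 ((mem_normalizer_iff.1 g.2 _).1 (inv_mem y.2))
    rw [chi_apply, mem_phi hm, eq_comm, ← div_eq_one, ← QuotientGroup.mk_div, ← QuotientGroup.mk_div,
      QuotientGroup.eq_one_iff]
    have e : y / ⟨(g : G) * y * (g : G)⁻¹, (mem_normalizer_iff.1 g.2 y).1 y.2⟩ = (⟨⁅(y : G), (g : G)⁆, hm⟩ : ↥Y) :=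
      Subtype.ext (by simp [commutatorElement_def, div_eq_mul_inv, mul_assoc])
    rw [e]
  constructor
  · exact fun h y hy => (key ⟨y, hy⟩).1 (by rw [h]; rfl)
  · intro h
    refine MulEquiv.ext fun z => ?_
    induction z using QuotientGroup.induction_on with
    | H w =>
      induction w using QuotientGroup.induction_on with
      | H y => exact (key y).2 (h y y.2)

variable [IsSimpleGroup G]

theorem exists_moved (hQ : Cfsg.IsQTKE G) (T : Sylow 2 G) {M : Subgroup G}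
    (hM : M ∈ Cfsg.calHOver (T : Subgroup G)) (hs : Group.IsSolvable ↥M) {t : G} (ht : t ∈ (T : Subgroup G))
    (htO : t ∈ Cfsg.oddGenerated M) (ht1 : t ∉ Cfsg.pCoreOf 2 M) :
    ∃ (q : ℕ) (Y : Subgroup G), q.Prime ∧ Y ≤ M ∧ M ≤ normalizer (Y : Set G) ∧ Y ∈ Cfsg.Xi (T : Subgroup G) ∧
      (∀ z : quo Y, z ^ q = 1) ∧ ∃ y ∈ Y, ⁅y, t⁆ ∉ Cfsg.twoPhiCore Y := by
  classical
  haveI : Fact (Nat.Prime 2) := ⟨Nat.prime_two⟩
  obtain ⟨hcore, hTM⟩ := hM
  haveI := hs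
  set Q := Cfsg.pCore 2 ↥M with hQdef
  have hQ2 : IsPGroup 2 Q := Cfsg.Lib.Components.isPGroup_pCore 2
  set π := QuotientGroup.mk' Q with hπ
  have hπs : Function.Surjective π := QuotientGroup.mk'_surjective Q
  have hYO : Cfsg.pCore 2 (↥M ⧸ Q) = ⊥ := by
    have h1 : IsPGroup 2 ((Cfsg.pCore 2 (↥M ⧸ Q)).comap π) :=
      (Cfsg.Lib.Components.isPGroup_pCore (G := ↥M ⧸ Q) 2).comap_of_ker_isPGroup π
        (by rw [hπ, QuotientGroup.ker_mk']; exact hQ2)
    have h2 := Cfsg.Lib.Components.le_pCore (N := (Cfsg.pCore 2 (↥M ⧸ Q)).comap π) h1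
    rw [← map_comap_eq_self_of_surjective hπs (Cfsg.pCore 2 (↥M ⧸ Q)), Subgroup.map_eq_bot_iff, hπ,
      QuotientGroup.ker_mk']
    exact h2
  have hrk : ∀ r : ℕ, r.Prime → r ≠ 2 → Cfsg.PRankLE r 2 (↥M ⧸ Q) := fun r hr hr2 => by
    haveI := Fact.mk hr
    refine Cfsg.Lib.QTSolUniq.pRankLE_quotient Q ?_ (Cfsg.Lib.QTUniq.rank_le (hQT := hQ.1) hcore r hr hr2)
    obtain ⟨j, hj⟩ := hQ2.exists_card_eq
    rw [hj]
    exact ((Nat.coprime_primes Nat.prime_two hr).2 hr2.symm).pow_left j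
  set th := π ⟨t, hTM ht⟩ with hth
  have hth2 : IsPGroup 2 (zpowers th) := by
    have h : zpowers th = (zpowers (⟨t, hTM ht⟩ : ↥M)).map π := (MonoidHom.map_zpowers π _).symm
    rw [h]
    refine IsPGroup.map ?_ π
    rintro ⟨_, k, rfl⟩
    obtain ⟨i, hi⟩ := T.2 ⟨t ^ k, zpow_mem ht k⟩
    refine ⟨i, Subtype.ext (Subtype.ext ?_)⟩
    have hi' := congrArg Subtype.val hi
    push_cast at hi' ⊢
    exact hi'
  obtain ⟨q, hq, hq2, D, hDc, hDexp, hDne⟩ : ∃ q : ℕ, ∃ hq : q.Prime, q ≠ 2 ∧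
      ∃ D : Subgroup ↥(Cfsg.pCore q (↥M ⧸ Q)), D.Characteristic ∧ (∀ x ∈ D, x ^ q = 1) ∧
        ¬ zpowers th ≤ centralizer ((D.map (Cfsg.pCore q (↥M ⧸ Q)).subtype : Subgroup (↥M ⧸ Q)) : Set (↥M ⧸ Q)) := by
    by_contra hcon
    push Not at hcon
    haveI : Group.IsSolvable (↥M ⧸ Q) := inferInstance
    have hcF : th ∈ centralizer (Cfsg.fittingSubgroup (↥M ⧸ Q) : Set (↥M ⧸ Q)) := by
      have hle : Cfsg.fittingSubgroup (↥M ⧸ Q) ≤ centralizer ({th} : Set (↥M ⧸ Q)) := by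
        rw [Cfsg.Lib.Components.fitting_eq_iSup_pCore]
        refine iSup_le fun r => ?_
        by_cases hr2 : r.1 = 2
        · rw [hr2, hYO]; exact bot_le
        haveI := Fact.mk r.2
        have hR : IsPGroup r.1 (Cfsg.pCore r.1 (↥M ⧸ Q)) := Cfsg.Lib.Components.isPGroup_pCore r.1
        obtain ⟨D, hDc, hDexp, hD⟩ := Cfsg.Lib.OddP.exists_exponent_critical hr2 hR
        obtain ⟨i, hi⟩ := hth2.exists_card_eq
        have hc := hD (zpowers th) (by rw [normalizer_eq_top]; exact le_top)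
          (hi ▸ ((Nat.coprime_primes Nat.prime_two r.2).2 (Ne.symm hr2)).pow_left i) (hcon r.1 r.2 hr2 D hDc hDexp)
        intro y hy
        exact mem_centralizer_singleton_iff.2 (mem_centralizer_iff.1 (hc (mem_zpowers th)) y hy)
      exact mem_centralizer_iff.2 fun y hy => mem_centralizer_singleton_iff.1 (hle hy)
    have hF : th ∈ Cfsg.fittingSubgroup (↥M ⧸ Q) := Cfsg.Lib.Coprime.centralizer_fitting_le hcF
    haveI hZn : ((zpowers th).subgroupOf (Cfsg.fittingSubgroup (↥M ⧸ Q))).Normal := by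
      refine normal_subgroupOf_of_le_normalizer fun y hy => centralizer_le_normalizer _ ?_
      refine mem_centralizer_iff.2 fun z hz => ?_
      obtain ⟨k, rfl⟩ := mem_zpowers_iff.1 hz
      exact ((show Commute y th from mem_centralizer_iff.1 hcF y hy).zpow_right k).symm.eq
    have hsn : (zpowers th).IsSubnormal := by
      rw [← map_subgroupOf_eq_of_le (zpowers_le.2 hF)]
      exact Subgroup.IsSubnormal.trans' (Subgroup.Normal.isSubnormal hZn) (Subgroup.Normal.isSubnormal inferInstance)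
    have hmem : th ∈ Cfsg.pCore 2 (↥M ⧸ Q) :=
      Cfsg.Lib.Components.le_pCore_of_subnormal hsn hth2 (mem_zpowers th)
    rw [hYO, mem_bot, hth, hπ, QuotientGroup.mk'_apply, QuotientGroup.eq_one_iff] at hmem
    exact ht1 ⟨⟨t, hTM ht⟩, hmem, rfl⟩
  haveI := Fact.mk hq
  haveI := hDc
  set U := D.map (Cfsg.pCore q (↥M ⧸ Q)).subtype with hU
  have hUn : U.Normal := normalizer_eq_top_iff.1 (top_le_iff.1 (by
    refine le_trans ?_ (Cfsg.Lib.OddP.le_normalizer_map_of_char D)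
    rw [normalizer_eq_top]))
  haveI := hUn
  have hUp : IsPGroup q U := ((Cfsg.Lib.Components.isPGroup_pCore q).to_subgroup D).map _
  have hexpU : ∀ y : U, y ^ q = 1 := by
    rintro ⟨_, y, hy, rfl⟩
    exact Subtype.ext (by
      show (y : ↥M ⧸ Q) ^ q = 1
      rw [← SubgroupClass.coe_pow, hDexp y hy]; rfl)
  have hrU : Cfsg.PRankLE q 2 U :=
    Cfsg.Lib.OddP.pRankLE_of_injective U.subtype U.subtype_injective (hrk q hq hq2)
  -- the subgroup
  set Ym := U.comap π with hYm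
  haveI : Ym.Normal := inferInstanceAs ((U.comap π).Normal)
  set Yp := Ym.map M.subtype with hYp
  set Y := Cfsg.oddGenerated Yp with hY
  have hYYp : Y ≤ Yp := Cfsg.Lib.Qrc.oddGenerated_le Yp
  have hYM : Y ≤ M := hYYp.trans (map_subtype_le _)
  have hMY : M ≤ normalizer (Y : Set G) :=
    (Cfsg.Lib.Qrc.le_normalizer_map_of_normal Ym).trans (Cfsg.Lib.JComp.normalizer_le_oddGen Yp)
  have hgm : ∀ y : ↥Y, π ⟨(y : G), hYM y.2⟩ ∈ U := fun y => by
    obtain ⟨z, hz, e⟩ := hYYp y.2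
    rw [← show z = ⟨(y : G), hYM y.2⟩ from Subtype.ext e]
    exact hz
  let g : ↥Y →* ↥U := (π.comp (inclusion hYM)).codRestrict U hgm
  have hgs : Function.Surjective g := by
    rintro ⟨u, hu⟩
    obtain ⟨m, rfl⟩ := hπs u
    obtain ⟨s, hs'⟩ := Cfsg.Lib.JComp.exists_odd_pow (m : G)
    have hmY : (m : G) ^ 2 ^ s ∈ Y := subset_closure ⟨pow_mem (mem_map_of_mem M.subtype (show m ∈ Ym from hu)) _, hs'⟩
    have he : g ⟨_, hmY⟩ = (⟨π m, hu⟩ : U) ^ 2 ^ s := Subtype.ext (by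
      show π ⟨(m : G) ^ 2 ^ s, hYM hmY⟩ = _
      push_cast
      rw [← map_pow]
      rfl)
    obtain ⟨j, hj⟩ := exists_pow_eq_self_of_coprime (x := (⟨π m, hu⟩ : U)) (n := 2 ^ s)
      (Nat.Coprime.pow_left s (Nat.Coprime.coprime_dvd_right (orderOf_dvd_of_pow_eq_one (hexpU _))
        ((Nat.coprime_primes Nat.prime_two hq).2 (Ne.symm hq2))))
    exact ⟨⟨_, hmY⟩ ^ j, by rw [map_pow, he, hj]⟩
  have hgk : g.ker = Cfsg.pCore 2 ↥Y := by
    apply le_antisymm
    · refine Cfsg.Lib.Components.le_pCore ?_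
      intro z
      have hz : (⟨((z : ↥Y) : G), hYM z.1.2⟩ : ↥M) ∈ Q := by
        have h := congrArg Subtype.val (MonoidHom.mem_ker.1 z.2)
        exact (QuotientGroup.eq_one_iff _).1 h
      obtain ⟨i, hi⟩ := hQ2 ⟨_, hz⟩
      refine ⟨i, Subtype.ext (Subtype.ext ?_)⟩
      have := congrArg (fun w : Q => ((w.1 : ↥M) : G)) hi
      push_cast at this ⊢
      exact this
    · intro o ho
      refine MonoidHom.mem_ker.2 ?_
      obtain ⟨i, hi⟩ := Cfsg.Lib.Components.isPGroup_pCore (G := ↥Y) 2 ⟨o, ho⟩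
      have h1 : g o ^ 2 ^ i = 1 := by rw [← map_pow, show o ^ 2 ^ i = 1 from congrArg Subtype.val hi, map_one]
      exact orderOf_eq_one_iff.1 (Nat.eq_one_of_dvd_coprimes (((Nat.coprime_primes Nat.prime_two hq).2
        (Ne.symm hq2)).pow_left i) (orderOf_dvd_of_pow_eq_one h1) (orderOf_dvd_of_pow_eq_one (hexpU _)))
  let e : quo Y ≃* ↥U :=
    (QuotientGroup.quotientMulEquivOfEq hgk.symm).trans (QuotientGroup.quotientKerEquivOfSurjective g hgs)
  have he : ∀ y : ↥Y, e (y : quo Y) = g y := fun y => rfl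
  have hqp : IsPGroup q (quo Y) := hUp.of_equiv e.symm
  have hqe : ∀ z : quo Y, z ^ q = 1 := fun z => e.injective (by rw [map_pow, hexpU, map_one])
  have hqr : Cfsg.PRankLE q 2 (quo Y) := Cfsg.Lib.OddP.pRankLE_of_injective e.toMonoidHom e.injective hrU
  -- `t` moves `Y`
  obtain ⟨y, hy, hyt⟩ : ∃ y ∈ Y, ⁅y, t⁆ ∉ Cfsg.twoPhiCore Y := by
    by_contra hcon
    push Not at hcon
    obtain ⟨i, hi⟩ := hth2.exists_card_eq
    refine hDne (Cfsg.Lib.OddP.le_centralizer_of_frattiniAction hUp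
      (hi ▸ ((Nat.coprime_primes Nat.prime_two hq).2 (Ne.symm hq2)).pow_left i) (by rw [normalizer_eq_top]; exact le_top)
      fun a ha => ?_)
    obtain ⟨n, hn⟩ := mem_zpowers_iff.1 ha
    have hth' : th ∈ normalizer (U : Set (↥M ⧸ Q)) := by rw [normalizer_eq_top]; exact mem_top _
    rw [show a = (⟨th, hth'⟩ : normalizer (U : Set (↥M ⧸ Q))) ^ n from Subtype.ext hn.symm, map_zpow,
      show Cfsg.Lib.OddP.frattiniAction U ⟨th, hth'⟩ = 1 from ?_, one_zpow]
    refine MulEquiv.ext fun w => ?_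
    induction w using QuotientGroup.induction_on with
    | H u =>
      obtain ⟨v, rfl⟩ := hgs u
      show QuotientGroup.mk' _ (U.normalizerMonoidHom ⟨th, hth'⟩ (g v)) = QuotientGroup.mk' _ (g v)
      have hv := hcon v v.2
      have hvY : ⁅(v : G), t⁆ ∈ Y := by
        rw [show ⁅(v : G), t⁆ = v * (t * (v : G)⁻¹ * t⁻¹) by rw [commutatorElement_def]; group]
        exact mul_mem v.2 ((mem_normalizer_iff.1 (hMY (hTM ht)) _).1 (inv_mem v.2))
      have h2 : g ⟨_, hvY⟩ ∈ frattini ↥U := by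
        rw [← he]
        exact frattini_le_comap_frattini_of_surjective (φ := e.toMonoidHom) e.surjective ((mem_phi hvY).1 hv)
      rw [eq_comm, ← div_eq_one, ← map_div, QuotientGroup.mk'_apply, QuotientGroup.eq_one_iff]
      convert h2 using 1
      refine Subtype.ext ?_
      show π ⟨(v : G), hYM v.2⟩ / (th * π ⟨(v : G), hYM v.2⟩ * th⁻¹) = π ⟨⁅(v : G), t⁆, hYM hvY⟩
      rw [hth, ← map_inv, ← map_mul, ← map_mul, ← map_div]
      congr 1
      exact Subtype.ext (by simp [commutatorElement_def, div_eq_mul_inv, mul_assoc])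
  obtain ⟨k, hk, hkc⟩ := Cfsg.Lib.OddP.frattini_quotient_small hqp hqr hqe
  haveI := Cfsg.Lib.PGroups.isMulCommutative_quotient_frattini hqp
  letI : CommGroup (frQ Y) := { (inferInstance : Group (frQ Y)) with mul_comm := mul_comm' }
  let χ : ↥M →* MulAut (frQ Y) := (chi Y).comp (inclusion hMY)
  have hχ : χ ⟨t, hTM ht⟩ ≠ 1 := fun h => hyt ((chi_eq_one_iff Y _).1 h y hy)
  have hto : (⟨t, hTM ht⟩ : ↥M) ∈ closure {x : ↥M | Odd (orderOf x)} := by
    have hle : Cfsg.oddGenerated M ≤ (closure {x : ↥M | Odd (orderOf x)}).map M.subtype := by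
      refine (closure_le _).2 fun x hx => ⟨⟨x, hx.1⟩, subset_closure ?_, rfl⟩
      show Odd (orderOf (⟨x, hx.1⟩ : ↥M))
      rw [Subgroup.orderOf_mk]
      exact hx.2
    obtain ⟨x, hx, hxe⟩ := hle htO
    rwa [← show x = ⟨t, hTM ht⟩ from Subtype.ext hxe]
  have hirr : ¬ (k ≤ 1 ∨ ∃ L : Subgroup (frQ Y), L ≠ ⊥ ∧ L ≠ ⊤ ∧
      ∀ s ∈ (T.subtype hTM : Subgroup ↥M), ∀ b ∈ L, χ s b ∈ L) := fun h =>
    hχ (trivial_of_invariant hq2 (Cfsg.Lib.PGroups.pow_prime_quotient_frattini hqp) hk hkc χ (T.subtype hTM) h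
      (by rw [Sylow.coe_subtype]; exact mem_subgroupOf.2 ht) hto)
  push Not at hirr
  obtain ⟨hk1, hnoL⟩ := hirr
  obtain rfl : k = 2 := by omega
  have hTY : (T : Subgroup G) ≤ normalizer (Y : Set G) := hTM.trans hMY
  refine ⟨q, Y, hq, hYM, hMY, ⟨Cfsg.Lib.JComp.oddGen_idem Yp, hTY, ?_, ⟨q, hq, hq2, ?_⟩, ?_⟩, hqe, y, hy, hyt⟩
  · intro h
    have h1 := Cfsg.Lib.JComp.le_pCoreOf (Cfsg.Lib.JComp.isPGroup_pCoreOf (p := 2) M)
      ((core_le T hTM).trans (le_sup_right : (T : Subgroup G) ≤ Y ⊔ T))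
      ((sup_le hYM hTM).trans (le_normalizer.trans (Cfsg.Lib.JComp.normalizer_le_pCoreOf 2 M)))
    rw [show Cfsg.pCoreOf 2 (Y ⊔ (T : Subgroup G)) = ⊥ by rw [Cfsg.pCoreOf, h, Subgroup.map_bot], le_bot_iff] at h1
    exact core_ne_bot hcore h1
  · obtain ⟨n, hn⟩ := hqp.exists_card_eq
    have h3 : Nat.card (quo Y) ≤ q ^ 3 := Cfsg.Agent.S3771.result hqp hqr hqe
    have hn3 : n ≤ 3 := (Nat.pow_le_pow_iff_right hq.one_lt).1 (hn ▸ h3)
    have hn2 : 2 ≤ n := (Nat.pow_le_pow_iff_right hq.one_lt).1 (by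
      rw [← hkc, ← hn]; exact Nat.card_le_card_of_surjective _ QuotientGroup.mk_surjective)
    rcases (show n = 2 ∨ n = 3 by omega) with rfl | rfl
    · exact Or.inl ⟨hn, IsPGroup.isMulCommutative_of_card_eq_prime_sq hn, hqe⟩
    · refine Or.inr ⟨hn, fun hc => ?_⟩
      have h5 := hqr ⊤ ⟨⟨fun a b => Subtype.ext (hc.is_comm.comm _ _)⟩⟩ fun x _ => hqe x
      rw [Subgroup.card_top, hn] at h5
      exact absurd h5 (not_le.2 (Nat.pow_lt_pow_right hq.one_lt (by norm_num)))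
  · intro Y' hY'1 hY'2 hY'T
    set L := ((Y'.subgroupOf Y).map (QuotientGroup.mk' (Cfsg.pCore 2 ↥Y))).map
      (QuotientGroup.mk' (frattini (quo Y))) with hL
    have hinv : ∀ s ∈ (T.subtype hTM : Subgroup ↥M), ∀ b ∈ L, χ s b ∈ L := by
      rintro s hs' _ ⟨_, ⟨w, hw, rfl⟩, rfl⟩
      rw [Sylow.coe_subtype, mem_subgroupOf] at hs'
      exact ⟨_, ⟨⟨(s : G) * w * (s : G)⁻¹, (mem_normalizer_iff.1 (hMY s.2) _).1 w.2⟩,
        mem_subgroupOf.2 ((mem_normalizer_iff.1 (hY'T hs') _).1 (mem_subgroupOf.1 hw)), rfl⟩, rfl⟩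
    by_cases hL0 : L = ⊥
    · refine Or.inl (le_antisymm (fun w hw => ?_) hY'1)
      rw [mem_phi (hY'2 hw), ← QuotientGroup.eq_one_iff]
      exact mem_bot.1 (hL0 ▸ ⟨_, ⟨⟨w, hY'2 hw⟩, mem_subgroupOf.2 hw, rfl⟩, rfl⟩)
    have hL1 : L = ⊤ := by
      by_contra hL1
      obtain ⟨s, hs', b, hb, hsb⟩ := hnoL L hL0 hL1
      exact hsb (hinv s hs' b hb)
    refine Or.inr (le_antisymm hY'2 fun w hw => ?_)
    obtain ⟨_, ⟨v, hv, rfl⟩, hve⟩ : (((⟨w, hw⟩ : ↥Y) : quo Y) : frQ Y) ∈ L := hL1 ▸ mem_top _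
    have h1 : (v⁻¹ * (⟨w, hw⟩ : ↥Y) : G) ∈ Cfsg.twoPhiCore Y := by
      refine (mem_phi (mul_mem (inv_mem v.2) hw)).2 ?_
      exact QuotientGroup.eq.1 hve
    have h2 := mul_mem (mem_subgroupOf.1 hv) (hY'1 h1)
    simpa using h2

end Cfsg.Lib.QTCentZ
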