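import Cfsg.Agent.QTKE.CentZ.Bad

/-!
If `ℒ_f(G, T)` is empty and `C(Ω₁(Z(T)))` lies in two maximal `2`-locals, then `C(Ω₁(Z(T))) = T`.
-/

set_option autoImplicit false
set_option linter.unusedSectionVars false
set_option linter.style.haveILetI false

namespace Cfsg.Lib.QTCentZ

open Subgroup Cfsg.Lib.QTSolv
open Cfsg.Lib.FFSLTwo (cj fixA phi_mul phi_one phi_inv_cancel)
open Cfsg.Lib.Qrc (exists_sec modLift modLift_injective)
open scoped commutatorElement

universe u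

variable {G : Type u} [Group G] [Finite G]

/-- no small parameter for a plane of order nine whose lines `T` permutes transitively -/
theorem three_false {T : Sylow 2 G} {X R V : Subgroup G} (m : Mdl T X 3 R V)
    (hΦV : Cfsg.twoPhiCore X ≤ centralizer (V : Set G))
    (htrans : ∀ L L' : Subgroup (frQ X), Nat.card L = 3 → Nat.card L' = 3 →
      ∃ t, ∃ ht : t ∈ (T : Subgroup G),
        L.map (MulEquiv.toMonoidHom (chi X ⟨t, m.d.hTX ht⟩)) = L')
    (hcub : Cfsg.CubicParamLE (X ⊔ (T : Subgroup G)) V 2 ∨ Cfsg.QuadParamLE (X ⊔ (T : Subgroup G)) V 2) :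
    False := by
  classical
  haveI : Fact (Nat.Prime 2) := ⟨Nat.prime_two⟩
  haveI : Fact (Nat.Prime 3) := ⟨Nat.prime_three⟩
  set M0 := X ⊔ (T : Subgroup G)
  obtain ⟨B, hB, hind, hidx⟩ : ∃ B : Subgroup G, B ≤ M0 ∧ Cfsg.InducesElemAbelianTwoGroupOn B V ∧
      (V ⊓ centralizer (B : Set G)).relIndex V ≤ ((centralizer (V : Set G)).relIndex B) ^ 2 := by
    rcases hcub with ⟨B, h1, h2, -, h4⟩ | ⟨B, h1, h2, -, h4⟩ <;> exact ⟨B, h1, h2, h4⟩
  set H := normalizer (X : Set G) ⊓ normalizer (R : Set G) with hH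
  obtain ⟨E, iE, iEf, φ, π, s⟩ := exists_sec (M := ⊥) m.hV m.hVn (normalizer_eq_top (H := (⊥ : Subgroup G)) ▸ le_top)
  set mk := QuotientGroup.mk' φ.ker
  have hker : ∀ h : ↥H, mk h = 1 ↔ (h : G) ∈ centralizer (V : Set G) := fun h => by
    rw [QuotientGroup.mk'_apply, QuotientGroup.eq_one_iff]
    refine (s.ker_mem h.2).trans ⟨fun hh => mem_centralizer_iff.2 fun v hv =>
      commutatorElement_eq_one_iff_mul_comm.1 (mem_bot.1 (hh v hv)), fun hh v hv =>
      mem_bot.2 (commutatorElement_eq_one_iff_mul_comm.2 (mem_centralizer_iff.1 hh v hv))⟩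
  have hXH : X ≤ H := le_sup_left.trans m.le_N
  have hTH : (T : Subgroup G) ≤ H := le_sup_right.trans m.le_N
  have hBH : B ≤ H := hB.trans m.le_N
  let gX : ↥X →* ↥H ⧸ φ.ker := mk.comp (Subgroup.inclusion hXH)
  set Q := gX.range with hQ
  let gB : ↥B →* ↥H ⧸ φ.ker := mk.comp (Subgroup.inclusion hBH)
  set A := gB.range with hA
  have hgker : ∀ x : ↥X, gX x = 1 ↔ (x : G) ∈ Cfsg.twoPhiCore X := fun x =>
    (hker _).trans ⟨fun h => m.inf_phi ⟨x.2, h⟩, fun h => hΦV h⟩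
  have hCb : ∀ b : ↥B, gB b = 1 ↔ (b : G) ∈ centralizer (V : Set G) := fun b => hker _
  have hAcard : Nat.card A = (centralizer (V : Set G)).relIndex B := by
    rw [hA, ← index_ker, relIndex]
    congr 1
    ext b
    exact (hCb b).trans mem_subgroupOf.symm
  have hfixA : s.pre (fixA (modLift φ) A) = V ⊓ centralizer (B : Set G) := by
    ext v
    rw [Cfsg.Lib.Qrc.SecData.mem_pre, mem_inf]
    refine and_congr_right fun hv => ⟨fun h => mem_centralizer_iff.2 fun b hb => ?_, fun h => ?_⟩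
    · have h1 := (s.fix_iff ⟨b, hBH hb⟩ hv).1 (h _ ⟨⟨b, hb⟩, rfl⟩)
      exact (commutatorElement_eq_one_iff_mul_comm.1 (mem_bot.1 h1)).symm
    · rintro _ ⟨b, rfl⟩
      refine (s.fix_iff _ hv).2 ?_
      rw [show ((Subgroup.inclusion hBH b : ↥H) : G) = (b : G) from rfl,
        commutatorElement_eq_one_iff_mul_comm.2 (mem_centralizer_iff.1 h b b.2).symm]
      exact one_mem _
  have hQe : Cfsg.IsElementaryAbelian 3 Q := by
    refine ⟨⟨⟨?_⟩⟩, ?_⟩
    · rintro ⟨_, x, rfl⟩ ⟨_, y, rfl⟩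
      refine Subtype.ext ?_
      show gX x * gX y = gX y * gX x
      rw [← commutatorElement_eq_one_iff_mul_comm, ← map_commutatorElement, hgker, commutatorElement_def]
      push_cast
      exact m.d.hD.comm x x.2 y y.2
    · rintro _ ⟨x, rfl⟩
      rw [← map_pow, hgker]
      exact m.d.hD.exp x x.2
  have hQc : Nat.card Q = 3 ^ 2 := by
    rw [hQ, ← index_ker, ← m.d.hD.index, relIndex]
    congr 1
    ext x
    exact (hgker x).trans mem_subgroupOf.symm
  have hQn : ∀ (k : ↥H ⧸ φ.ker), ∀ z ∈ Q, k * z * k⁻¹ ∈ Q := by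
    intro k
    induction k using QuotientGroup.induction_on with
    | H h =>
      rintro _ ⟨x, rfl⟩
      exact ⟨⟨(h : G) * x * (h : G)⁻¹, (mem_normalizer_iff.1 h.2.1 x).1 x.2⟩, rfl⟩
  have hAe : Cfsg.IsElementaryAbelian 2 A := by
    refine ⟨⟨⟨?_⟩⟩, ?_⟩
    · rintro ⟨_, b, rfl⟩ ⟨_, b', rfl⟩
      refine Subtype.ext ?_
      show gB b * gB b' = gB b' * gB b
      rw [← commutatorElement_eq_one_iff_mul_comm, ← map_commutatorElement, hCb, commutatorElement_def]
      push_cast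
      exact hind.2.2 b b.2 b' b'.2
    · rintro _ ⟨b, rfl⟩
      rw [← map_pow, hCb]
      push_cast
      exact hind.2.1 b b.2
  have hai : ∀ a ∈ A, a⁻¹ = a := fun a ha => inv_eq_of_mul_eq_one_right (by rw [← pow_two]; exact hAe.2 a ha)
  have hn : ∀ a ∈ A, ∀ x ∈ Q, a * x * a ∈ Q := fun a ha x hx => by
    have h := hQn a x hx
    rwa [hai a ha] at h
  have hfaith : ∀ a ∈ A, (∀ x ∈ Q, a * x * a = x) → a = 1 := by
    rintro _ ⟨b, rfl⟩ hc
    have hb := hB b.2
    rw [← SetLike.mem_coe, coe_mul_of_right_le_normalizer_left X (T : Subgroup G) m.d.hTX] at hb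
    obtain ⟨x, hx, t, ht, hbt⟩ := hb
    have htR : t ∈ R := by
      refine m.mem_R ht fun y hy => ?_
      have hyb : ⁅y, (b : G)⁆ ∈ X := by
        rw [show ⁅y, (b : G)⁆ = y * ((b : G) * y⁻¹ * (b : G)⁻¹) by rw [commutatorElement_def]; group]
        exact mul_mem hy ((mem_normalizer_iff.1 (hBH b.2).1 _).1 (inv_mem hy))
      have h1 : ⁅y, (b : G)⁆ ∈ Cfsg.twoPhiCore X := by
        refine (hgker ⟨_, hyb⟩).1 ?_
        have e : ⁅gX ⟨y, hy⟩, gB b⁆ = gX ⟨⁅y, (b : G)⁆, hyb⟩ := by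
          show ⁅mk _, mk _⁆ = mk _
          rw [← map_commutatorElement]
          congr 1
        rw [← e, commutatorElement_eq_one_iff_mul_comm]
        have h2 := hc _ ⟨⟨y, hy⟩, rfl⟩
        calc gX ⟨y, hy⟩ * gB b = gB b * gX ⟨y, hy⟩ * gB b * gB b := by rw [h2]
          _ = gB b * gX ⟨y, hy⟩ := by rw [mul_assoc _ (gB b) (gB b), ← pow_two, hAe.2 _ ⟨b, rfl⟩, mul_one]
      rw [show (b : G) = x * t from hbt.symm] at h1
      rw [show ⁅y, t⁆ = x⁻¹ * ((⁅y, x⁆)⁻¹ * ⁅y, x * t⁆) * x⁻¹⁻¹ by simp only [commutatorElement_def]; group]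
      exact (mem_normalizer_iff.1 (phi_normal (inv_mem (le_normalizer hx))) _).1
        (mul_mem (inv_mem (m.d.hD.comm y hy x hx)) h1)
    have hmem : gB b ∈ Q := ⟨⟨x, hx⟩, by
      show mk ⟨x, hXH hx⟩ = mk ⟨b, hBH b.2⟩
      rw [show (⟨b, hBH b.2⟩ : ↥H) = ⟨x, hXH hx⟩ * ⟨t, hTH ht⟩ from Subtype.ext hbt.symm, map_mul,
        (hker ⟨t, hTH ht⟩).2 (m.hRV htR), mul_one]⟩
    exact eq_one_of_sq Nat.prime_three (by norm_num) (hQe.2 _ hmem) (by rw [← pow_two]; exact hAe.2 _ ⟨b, rfl⟩)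
  have hfix : ∀ v, (∀ z ∈ Q, modLift φ z v = v) → v = 0 := by
    intro v hv
    obtain ⟨w, hw, rfl⟩ := s.surj v
    refine (s.eq_zero w hw).2 (mem_bot.2 (m.hVfree w hw (mem_centralizer_iff.2 fun x hx => ?_)))
    have h1 := (s.fix_iff ⟨x, hXH hx⟩ hw).1 (hv _ ⟨⟨x, hx⟩, rfl⟩)
    exact (commutatorElement_eq_one_iff_mul_comm.1 (mem_bot.1 h1)).symm
  have hne : ∀ z : Q, (z : ↥H ⧸ φ.ker) ≠ 1 → orderOf (z : ↥H ⧸ φ.ker) = 3 := fun z hz =>
    orderOf_eq_prime (hQe.2 _ z.2) hz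
  -- some element of the plane has a fixed point
  obtain ⟨u₀, hu₀, hu₀1, v₀, hv₀, hv₀0⟩ : ∃ u ∈ Q, u ≠ 1 ∧ ∃ v, modLift φ u v = v ∧ v ≠ 0 := by
    by_contra hcon
    push Not at hcon
    obtain ⟨w, hw, hw1⟩ : ∃ w ∈ V, w ≠ 1 := (Subgroup.bot_or_exists_ne_one V).resolve_left m.hVne
    obtain ⟨y, hy, hy1⟩ : ∃ y ∈ Q, y ≠ 1 := (Subgroup.bot_or_exists_ne_one Q).resolve_left fun h => by
      rw [h, Subgroup.card_bot] at hQc; norm_num at hQc
    obtain ⟨z, hz, hzy⟩ : ∃ z ∈ Q, z ∉ zpowers y := by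
      by_contra hall
      push Not at hall
      have h := Subgroup.card_le_of_le (show Q ≤ zpowers y from hall)
      rw [hQc, Nat.card_zpowers, hne ⟨y, hy⟩ hy1] at h
      norm_num at h
    have hc : Commute y z := Cfsg.Lib.ElemToolkit.comm_of hQe.1 hy hz
    refine hw1 (mem_bot.1 ((s.eq_zero w hw).1 ?_))
    have hz1 : z ≠ 1 := fun h => hzy (h ▸ one_mem _)
    rw [spanning (φ := modLift φ) s.char Nat.prime_three (by norm_num) hc (hQe.2 y hy) (hQe.2 z hz) (v := π w)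
      fun u hu hu' _ => ?_]
    · rw [hcon z hz hz1 _ (mem_fx.1 (av_mem 3 (hQe.2 z hz) _)), zero_add]
      refine Finset.sum_eq_zero fun i _ => ?_
      have hyz : y * z ^ i ∈ Q := mul_mem hy (pow_mem hz i)
      refine hcon _ hyz (fun h => hzy ?_) _ (mem_fx.1 (av_mem 3 (hQe.2 _ hyz) _))
      have h1 : y ∈ zpowers z := (eq_inv_of_mul_eq_one_left h) ▸ inv_mem (pow_mem (mem_zpowers z) i)
      have h2 : zpowers y = zpowers z := eq_of_le_of_card_ge (zpowers_le.2 h1)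
        (by rw [Nat.card_zpowers, Nat.card_zpowers, hne ⟨y, hy⟩ hy1, hne ⟨z, hz⟩ hz1])
      exact h2.ge (mem_zpowers z)
    · refine hfix u fun q hq => ?_
      exact (eq_sup_of_not_mem hQe hQc hy hy1 hz hzy).le.trans
        (sup_le (zpowers_le.2 (show y ∈ stab (modLift φ) u from mem_fx.1 hu))
          (zpowers_le.2 (show z ∈ stab (modLift φ) u from mem_fx.1 hu'))) hq
  have hline : ∀ u ∈ Q, u ≠ 1 → ∃ v, modLift φ u v = v ∧ v ≠ 0 := by
    rintro _ ⟨x', rfl⟩ hu'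
    obtain ⟨x, rfl⟩ := hu₀
    set cls : ↥X → frQ X := fun x => ((x : quo X) : frQ X)
    have hcls : ∀ x : ↥X, cls x = 1 ↔ gX x = 1 := fun x => by
      rw [hgker, mem_phi x.2, QuotientGroup.eq_one_iff]
    have hc3 : ∀ x : ↥X, gX x ≠ 1 → Nat.card (zpowers (cls x)) = 3 := fun x hx => by
      rw [Nat.card_zpowers]
      refine orderOf_eq_prime ?_ (mt (hcls x).1 hx)
      show ((x : quo X) : frQ X) ^ 3 = 1
      rw [← QuotientGroup.mk_pow, ← QuotientGroup.mk_pow]
      exact (hcls (x ^ 3)).2 (by rw [map_pow, hQe.2 _ ⟨x, rfl⟩])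
    obtain ⟨t, ht, hmap⟩ := htrans _ _ (hc3 x hu₀1) (hc3 x' hu')
    rw [MonoidHom.map_zpowers] at hmap
    obtain ⟨n, hn'⟩ := mem_zpowers_iff.1 (hmap.le (mem_zpowers _))
    set xt : ↥X := ⟨t * x * t⁻¹, (mem_normalizer_iff.1 (m.d.hTX ht) x).1 x.2⟩
    have hg : gX xt = gX x' ^ n := by
      rw [← map_zpow, ← mul_inv_eq_one, ← map_inv, ← map_mul]
      refine (hcls _).1 ?_
      show (((xt * (x' ^ n)⁻¹ : ↥X) : quo X) : frQ X) = 1
      rw [QuotientGroup.mk_mul, QuotientGroup.mk_mul, QuotientGroup.mk_inv, QuotientGroup.mk_inv,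
        QuotientGroup.mk_zpow, QuotientGroup.mk_zpow, mul_inv_eq_one]
      exact hn'.symm
    set th : ↥H ⧸ φ.ker := mk ⟨t, hTH ht⟩
    have hxt : gX xt = th * gX x * th⁻¹ := by
      show mk _ = mk _ * mk _ * (mk _)⁻¹
      rw [← map_inv, ← map_mul, ← map_mul]
      congr 1
    refine ⟨modLift φ th v₀, ?_, fun h0 => hv₀0 (by rw [← phi_inv_cancel (φ := modLift φ) th v₀, h0, map_zero])⟩
    have hfixed : gX xt ∈ stab (modLift φ) (modLift φ th v₀) := by
      show modLift φ (gX xt) (modLift φ th v₀) = modLift φ th v₀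
      rw [← phi_mul, hxt, inv_mul_cancel_right, phi_mul, hv₀]
    have hgen : gX x' ∈ zpowers (gX xt) := by
      have hx1 : gX xt ≠ 1 := fun h => hu₀1 (conj_eq_one_iff.1 (hxt.symm.trans h))
      have h2 : zpowers (gX xt) = zpowers (gX x') := eq_of_le_of_card_ge
        (zpowers_le.2 (hg ▸ zpow_mem (mem_zpowers _) n))
        (by rw [Nat.card_zpowers, Nat.card_zpowers, hne ⟨_, xt, rfl⟩ hx1, hne ⟨_, x', rfl⟩ hu'])
      exact h2.ge (mem_zpowers _)
    exact (zpowers_le.2 hfixed) hgen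
  have hAne : A ≠ ⊥ := fun h => hind.1 fun b hb => (hCb ⟨b, hb⟩).1 (mem_bot.1 (h ▸ ⟨⟨b, hb⟩, rfl⟩))
  have h := index_gt (φ := modLift φ) s.char hQe hQc hfix hline hAe hn hfaith hAne
  rw [← s.relIndex_pre, hfixA, hAcard] at h
  exact absurd hidx (not_le.2 h)

/-- a `p`-power in a group whose order is a power of a prime -/
theorem exists_pow_of_prime {A : Type u} [Group A] [Finite A] {f : A} {p : ℕ}
    (h : ∀ r : ℕ, r.Prime → r ∣ orderOf f → r = p) : ∃ j, f ^ p ^ j = 1 := by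
  rcases eq_or_ne (orderOf f) 1 with h1 | h1
  · exact ⟨0, by rw [orderOf_eq_one_iff.1 h1, one_pow]⟩
  obtain ⟨r, hr, hrd⟩ := Nat.exists_prime_and_dvd h1
  have hp : p.Prime := h r hr hrd ▸ hr
  refine ⟨(orderOf f).factorization p, orderOf_dvd_iff_pow_eq_one.1 ?_⟩
  have e := Nat.eq_prime_pow_of_unique_prime_dvd (orderOf_pos f).ne' fun {r} => h r
  rw [e, Nat.Prime.factorization_pow hp]
  simp

variable [IsSimpleGroup G] {T : Sylow 2 G} (c : Ctx T)
include c

theorem Ctx.cent_over : CZ T ∈ Cfsg.calHOver (T : Subgroup G) := by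
  obtain ⟨M₁, -, h₁, -⟩ := c.two
  refine ⟨fun h => ?_, T_le_cent T⟩
  have h1 := Cfsg.Lib.JComp.le_pCoreOf (H := CZ T) (Cfsg.Lib.JComp.isPGroup_pCoreOf (p := 2) M₁)
    ((core_le T (c.over h₁).2).trans (T_le_cent T))
    (h₁.2.trans (le_normalizer.trans (Cfsg.Lib.JComp.normalizer_le_pCoreOf 2 M₁)))
  rw [show Cfsg.pCoreOf 2 (CZ T) = ⊥ by rw [Cfsg.pCoreOf, h, Subgroup.map_bot], le_bot_iff] at h1
  exact core_ne_bot (c.over h₁).1 h1

/-- `O²(C(Ω₁(Z(T))))` is `2`-closed -/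
theorem Ctx.closed (hG : ¬ IsMulCommutative G) :
    Odd ((Cfsg.pCoreOf 2 (Cfsg.oddGenerated (CZ T))).relIndex (Cfsg.oddGenerated (CZ T))) := by
  haveI : Fact (Nat.Prime 2) := ⟨Nat.prime_two⟩
  set C := CZ T
  set K := Cfsg.oddGenerated C
  have hC := c.cent_over
  have hKC : K ≤ C := Cfsg.Lib.Qrc.oddGenerated_le C
  have hTK : (T : Subgroup G) ⊓ K ≤ Cfsg.pCoreOf 2 C := by
    intro t ht
    by_contra ht1
    obtain ⟨q, Y, -, hYC, -, hY, -⟩ :=
      exists_moved c.hQ T hC (solvable_over T c.hL hC) ht.1 ht.2 ht1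
    exact c.no_xi hG hY hYC
  have hle : Cfsg.pCoreOf 2 C ⊓ K ≤ Cfsg.pCoreOf 2 K := Cfsg.Lib.JComp.le_pCoreOf
    ((Cfsg.Lib.JComp.isPGroup_pCoreOf C).to_le inf_le_left) inf_le_right
    (Cfsg.Lib.Coprime.le_normalizer_inf (hKC.trans (le_normalizer.trans
      (Cfsg.Lib.JComp.normalizer_le_pCoreOf 2 C))) le_normalizer)
  have hTs : Cfsg.IsSylowTwoIn (T : Subgroup G) C := by
    refine ⟨hC.2, T.2, ?_⟩
    rw [← Nat.not_even_iff_odd, even_iff_two_dvd]
    exact fun h => T.not_dvd_index (h.trans (relIndex_dvd_index_of_le hC.2))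
  have hs := (Cfsg.Lib.JComp.sylowIn_inf hTs hKC (Cfsg.Lib.Qrc.le_normalizer_oddGenerated C)).2.2
  exact hs.of_dvd_nat (relIndex_dvd_of_le_left K
    ((le_inf hTK inf_le_right).trans hle))

/-- `O²(C(Ω₁(Z(T))))` is normal in every maximal local over it -/
theorem Ctx.core_le (hG : ¬ IsMulCommutative G) {M : Subgroup G}
    (hM : M ∈ Cfsg.maxTwoLocalsContaining (CZ T)) :
    Cfsg.pCoreOf 2 (Cfsg.oddGenerated (CZ T)) ≤ Cfsg.pCoreOf 2 M := by
  classical
  haveI : Fact (Nat.Prime 2) := ⟨Nat.prime_two⟩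
  set C := CZ T
  set K := Cfsg.oddGenerated C with hK
  set O := Cfsg.pCoreOf 2 K with hO
  have hKC : K ≤ C := Cfsg.Lib.Qrc.oddGenerated_le C
  have hCT : C ∈ Cfsg.calHOver (T : Subgroup G) := c.cent_over
  have hOT : O ≤ (T : Subgroup G) := by
    refine le_trans ?_ (QTCentZ.core_le T hCT.2)
    refine Cfsg.Lib.JComp.le_pCoreOf (Cfsg.Lib.JComp.isPGroup_pCoreOf K)
      ((Cfsg.Lib.JComp.pCoreOf_le K).trans hKC) ?_
    exact (Cfsg.Lib.Qrc.le_normalizer_oddGenerated C).trans (Cfsg.Lib.JComp.normalizer_le_pCoreOf 2 K)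
  intro t ht
  by_contra ht1
  obtain ⟨q, Y, hq, hYM, hMY, hY, hexp, y, hy, hyt⟩ := exists_moved c.hQ T (c.over hM)
    (solvable_over T c.hL (c.over hM)) (hOT ht)
    (Cfsg.Lib.JComp.oddGen_mono hM.2 ((Cfsg.Lib.JComp.pCoreOf_le K) ht)) ht1
  obtain ⟨p, d⟩ := exists_dat hY
  haveI := Fact.mk d.hp
  have hp2 := d.hp2
  haveI := Cfsg.Lib.PGroups.isMulCommutative_quotient_frattini d.pgroup
  letI : CommGroup (frQ Y) := { (inferInstance : Group (frQ Y)) with mul_comm := mul_comm' }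
  haveI : Finite (MulAut (frQ Y)) := mulAut_finite
  have hB : Nat.card (frQ Y) = p ^ 2 :=
    (index_eq_card (frattini (quo Y))).symm.trans (Cfsg.Lib.QTSolUniq.frattini_quotient_sq d.hB)
  have he : ∀ b : frQ Y, b ^ p = 1 := Cfsg.Lib.PGroups.pow_prime_quotient_frattini d.pgroup
  have hKN : K ≤ normalizer (Y : Set G) := (hKC.trans hM.2).trans hMY
  let f : ↥K →* MulAut (frQ Y) := (chi Y).comp (inclusion hKN)
  set O1 := O.subgroupOf K with hO1
  set W := O1.map f with hW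
  have hO1p : IsPGroup 2 O1 := (Cfsg.Lib.JComp.isPGroup_pCoreOf K).of_equiv
    (subgroupOfEquivOfLe (Cfsg.Lib.JComp.pCoreOf_le K)).symm
  have hWp : IsPGroup 2 W := hO1p.map f
  haveI hO1n : O1.Normal := normal_subgroupOf_of_le_normalizer
    (le_normalizer.trans (Cfsg.Lib.JComp.normalizer_le_pCoreOf 2 K))
  have htK : t ∈ K := Cfsg.Lib.JComp.pCoreOf_le K ht
  have hft : f ⟨t, htK⟩ ≠ 1 := fun h => hyt ((chi_eq_one_iff Y _).1 h y hy)
  -- an element of odd order moving `W`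
  obtain ⟨x, hxo, w, hw, hne⟩ : ∃ x : ↥K, Odd (orderOf x) ∧ ∃ w ∈ W, f x * w ≠ w * f x := by
    by_contra hcon
    push Not at hcon
    have hcen : (⊤ : Subgroup ↥K) ≤ (centralizer (W : Set (MulAut (frQ Y)))).comap f := by
      rw [← oddGen_closure C]
      exact (closure_le _).2 fun x hx => mem_centralizer_iff.2 fun w hw => (hcon x hx w hw).symm
    let g := f.rangeRestrict
    have hgs : Function.Surjective g := f.rangeRestrict_surjective
    have hidx : Odd ((O1.map g).index) := Odd.of_dvd_nat (c.closed hG) (O1.index_map_dvd hgs)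
    have hnd : ¬ 2 ∣ (O1.map g).index := fun h => (Nat.not_even_iff_odd.2 hidx) (even_iff_two_dvd.2 h)
    let S : Sylow 2 f.range := (hO1p.map g).toSylow hnd
    have hS : (S : Subgroup f.range) = O1.map g := rfl
    have hNC : normalizer ((S : Subgroup f.range) : Set f.range) ≤
        centralizer ((S : Subgroup f.range) : Set f.range) := by
      intro z _
      obtain ⟨k, rfl⟩ := hgs z
      refine mem_centralizer_iff.2 ?_
      rintro s hs
      rw [hS] at hs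
      obtain ⟨o, ho, rfl⟩ := hs
      exact Subtype.ext (mem_centralizer_iff.1 (hcen (mem_top k)) _ (mem_map_of_mem f ho))
    set J := (MonoidHom.transferSylow S hNC).ker with hJ
    have hle : closure {x : ↥K | Odd (orderOf x)} ≤ J.comap g := by
      refine (closure_le _).2 fun x hx => ?_
      show g x ∈ J
      rw [hJ, MonoidHom.mem_ker]
      set z := MonoidHom.transferSylow S hNC (g x)
      obtain ⟨i, hi⟩ := S.2 z
      exact orderOf_eq_one_iff.1 (Nat.eq_one_of_dvd_coprimes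
        (((show Odd (orderOf x) from hx).coprime_two_right).pow_right i)
        ((orderOf_map_dvd _ _).trans (orderOf_map_dvd g x)) (orderOf_dvd_of_pow_eq_one hi))
    rw [oddGen_closure C] at hle
    have h1 : g ⟨t, htK⟩ ∈ J ⊓ (S : Subgroup f.range) :=
      ⟨hle (mem_top _), hS ▸ mem_map_of_mem g (mem_subgroupOf.2 ht)⟩
    rw [(MonoidHom.ker_transferSylow_disjoint S hNC (S : Subgroup f.range) S.2).eq_bot, mem_bot] at h1
    exact hft (congrArg Subtype.val h1)
  have hxW : f x ∈ normalizer (W : Set (MulAut (frQ Y))) :=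
    (le_normalizer_map f) ⟨x, (normalizer_eq_top (H := O1)).symm ▸ mem_top x, rfl⟩
  obtain ⟨R, V, m, hVZ⟩ := c.exists_mdl hM hY hG hYM d
  have hcub := c.small_param hM hY hG hYM m
  have hxN : (x : G) ∈ normalizer (Y : Set G) := hKN x.2
  by_cases hp3 : p = 3
  · subst hp3
    have hB9 : Nat.card (frQ Y) = 9 := by rw [hB]; norm_num
    obtain ⟨n, hn⟩ := odd_order_three hB9 (hxo.of_dvd_nat (orderOf_map_dvd f x))
    obtain ⟨htr, w₀, hw₀, hinv⟩ := (moved hp2 he hB hWp hn hxW hw hne).2 rfl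
    obtain ⟨o, ho, rfl⟩ := hw₀
    have hq3 : q = 3 := by
      by_contra h
      obtain ⟨k, hk, -⟩ := d.card_quo
      have hall : ∀ z : quo Y, z = 1 := fun z => orderOf_eq_one_iff.1 (Nat.eq_one_of_dvd_coprimes
        (((Nat.coprime_primes Nat.prime_three hq).2 (Ne.symm h)).pow_left k) (hk ▸ orderOf_dvd_natCard z)
        (orderOf_dvd_of_pow_eq_one (hexp z)))
      haveI : Subsingleton (quo Y) := ⟨fun a b => (hall a).trans (hall b).symm⟩
      haveI : Subsingleton (frQ Y) := Quotient.instSubsingletonQuotient _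
      rw [Nat.card_of_subsingleton (1 : frQ Y)] at hB
      norm_num at hB
    subst hq3
    have hphi := c.phi_le hM hY hG hYM d hexp x.2 (mem_subgroupOf.1 ho) hxN (hKN o.2)
      ⟨n, hn⟩ (fun h => hne (by rw [show f x = 1 from h, one_mul, mul_one])) hinv
    refine three_false m ?_ (fun L L' hL hL' => ?_) hcub
    · refine le_centralizer_iff.1 (hVZ.trans (iSup_le fun n => ?_))
      rintro _ ⟨z, hz, rfl⟩
      exact (mem_normalizer_iff.1 ((Cfsg.Lib.Large.normalizer_centralizer_le _) (phi_normal n.2.1)) z).1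
        ((le_centralizer_iff.1 hphi) hz)
    · obtain ⟨w', hw', hmap⟩ := htr L L' hL hL'
      obtain ⟨o', ho', rfl⟩ := hw'
      exact ⟨(o' : G), hOT (mem_subgroupOf.1 ho'), hmap⟩
  · have h5 : 5 ≤ p := by
      have h2 := d.hp.two_le
      have hne := d.hp2
      have h4 : p ≠ 4 := fun h => by
        have h' := d.hp
        rw [h] at h'
        exact absurd h' (by decide)
      omega
    obtain ⟨hp5, haut⟩ := m.five h5 hcub
    set g : ↥(normalizer (Y : Set G)) := inclusion hKN x with hg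
    have hgo : Odd (orderOf (act Y g)) :=
      hxo.of_dvd_nat ((orderOf_map_dvd (act Y) g).trans (orderOf_map_dvd (inclusion hKN) x))
    haveI : Finite (MulAut (quo Y)) := Finite.of_injective (fun e => (e : quo Y → quo Y)) DFunLike.coe_injective
    have hord : ∀ r : ℕ, r.Prime → r ∣ orderOf (act Y g) → r = 5 := by
      intro r hr hrd
      by_contra hr5
      have hr2 : r ≠ 2 := fun h => by
        subst h
        exact (Nat.not_even_iff_odd.2 hgo) (even_iff_two_dvd.2 hrd)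
      set g' := g ^ (orderOf (act Y g) / r) with hg'
      have hg1 : act Y g' ^ r = 1 := by
        rw [hg', map_pow, ← pow_mul, Nat.div_mul_cancel hrd, pow_orderOf_eq_one]
      have h1 : act Y g' = 1 := by
        refine (act_eq_one Y g').2 (haut r hr hr2 hr5 g' g'.2 fun y hy => ?_)
        have h := (act_eq_one Y (g' ^ r)).1 (by rw [map_pow]; exact hg1) y hy
        exact h
      have h2 := orderOf_pow_orderOf_div (orderOf_pos (act Y g)).ne' hrd
      rw [← map_pow, ← hg', h1, orderOf_one] at h2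
      exact hr.ne_one h2.symm
    obtain ⟨j, hj⟩ := exists_pow_of_prime hord
    have hfx : f x ^ p ^ j = 1 := by
      rw [hp5]
      show ((quotAut (frattini (quo Y))) (act Y g)) ^ 5 ^ j = 1
      rw [← map_pow, hj, map_one]
    exact (moved hp2 he hB hWp hfx hxW hw hne).1 hp5

/-- `C(Ω₁(Z(T))) = T` -/
theorem Ctx.cent_eq (hG : ¬ IsMulCommutative G) : CZ T = (T : Subgroup G) := by
  classical
  haveI : Fact (Nat.Prime 2) := ⟨Nat.prime_two⟩
  set C := CZ T with hC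
  set K := Cfsg.oddGenerated C with hK
  have hKC : K ≤ C := Cfsg.Lib.Qrc.oddGenerated_le C
  have hodd := c.closed hG
  obtain ⟨M₁, M₂, h₁, h₂, hne⟩ := c.two
  rcases eq_or_ne K ⊥ with hK0 | hK0
  · refine le_antisymm (fun x hx => ?_) (T_le_cent T)
    have hP : IsPGroup 2 C := fun z => by
      obtain ⟨s, hs⟩ := Cfsg.Lib.JComp.exists_odd_pow (z : G)
      refine ⟨s, Subtype.ext ?_⟩
      push_cast
      exact mem_bot.1 (hK0 ▸ (Subgroup.subset_closure ⟨pow_mem z.2 _, hs⟩ : (z : G) ^ 2 ^ s ∈ K))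
    exact (T.3 hP (T_le_cent T)).le hx
  exfalso
  have key : ∀ M ∈ Cfsg.maxTwoLocalsContaining C, M ≤ normalizer (K : Set G) := by
    intro M hM
    set U := Cfsg.omegaCenterOf (Cfsg.pCoreOf 2 M) with hU
    set Z := Cfsg.omegaCenterOf (T : Subgroup G) with hZ
    have hnU : M ≤ normalizer (U : Set G) := le_normalizer.trans
      ((Cfsg.Lib.JComp.normalizer_le_pCoreOf 2 M).trans (Cfsg.Lib.JComp.normalizer_le_omegaCenterOf _))
    set V := ⨆ n : ↥M, cj (n : G) Z with hV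
    have hVU : V ≤ U := by
      refine iSup_le fun n => ?_
      rintro _ ⟨z, hz, rfl⟩
      exact (mem_normalizer_iff.1 (hnU n.2) z).1 (Z_le c.hQ T (c.over hM) hz)
    have hMV : M ≤ normalizer (V : Set G) := by
      refine Cfsg.Lib.JComp.le_normalizer_of_conj fun g hg v hv => ?_
      have hle : cj g V ≤ V := by
        rw [hV]
        simp only [cj, Subgroup.map_iSup]
        refine iSup_le fun n => ?_
        exact (Cfsg.Lib.FFModule.cj_mul g (n : G) Z).le.trans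
          (le_iSup (fun m : ↥M => cj (m : G) Z) ⟨g * n, mul_mem hg n.2⟩)
      exact hle ⟨v, hv, rfl⟩
    have hZV : Z ≤ V := fun z hz => le_iSup (fun m : ↥M => cj (m : G) Z) 1 ⟨z, hz, by simp⟩
    have hKM : K ≤ M := hKC.trans hM.2
    have hVe : Cfsg.IsElementaryAbelian 2 V :=
      Cfsg.Lib.ElemToolkit.elementary_mono hVU (Cfsg.Lib.JComp.elem_omegaCenterOf _)
    have hOV : Cfsg.pCoreOf 2 K ≤ centralizer (V : Set G) := fun o ho => mem_centralizer_iff.2 fun v hv =>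
      ((Cfsg.Lib.JComp.mem_omegaCenterOf.1 (hVU hv)).2.1 o (c.core_le hG hM ho)).symm
    have hKV : K ≤ centralizer (V : Set G) := by
      rw [← le_centralizer_iff, ← commutator_eq_bot_iff_le_centralizer]
      by_contra hne'
      obtain ⟨E, iE, iEf, φ, π, s⟩ := exists_sec (M := ⊥) (L := ⁅V, K⁆) (H := (T : Subgroup G))
        (Cfsg.Lib.ElemToolkit.elementary_mono (Cfsg.Lib.Qrc.commutator_le_left_of_normalize (hKM.trans hMV)) hVe)
        (fun r hr => Cfsg.Lib.Qrc.mem_normalizer_of_cj (by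
          rw [Cfsg.Lib.Qrc.cj_commutator, Cfsg.Lib.Qrc.cj_of_mem_normalizer ((c.over hM).2.trans hMV hr),
            Cfsg.Lib.Qrc.cj_of_mem_normalizer
              (((T_le_cent T).trans (Cfsg.Lib.Qrc.le_normalizer_oddGenerated C)) hr)]))
        (normalizer_eq_top (H := (⊥ : Subgroup G)) ▸ le_top)
      have hEne : (⊤ : AddSubgroup E) ≠ ⊥ := fun h => hne' (eq_bot_iff.2 fun u hu =>
        mem_bot.2 (mem_bot.1 ((s.eq_zero u hu).1 (AddSubgroup.mem_bot.1 (h ▸ AddSubgroup.mem_top (π u))))))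
      obtain ⟨e, -, he0, he⟩ := Cfsg.Lib.FFModule.exists_fix_mem (φ := φ) s.char
        (T.2.of_equiv Subgroup.topEquiv.symm) (⊤ : AddSubgroup E) (fun _ _ _ _ => AddSubgroup.mem_top _) hEne
      obtain ⟨u, hu, rfl⟩ := s.surj e
      refine he0 ((s.eq_zero u hu).2 (mem_bot.2 ?_))
      have huV : u ∈ V := Cfsg.Lib.Qrc.commutator_le_left_of_normalize (hKM.trans hMV) hu
      have huT : u ∈ (T : Subgroup G) :=
        QTCentZ.core_le T (c.over hM).2 (Cfsg.Lib.JComp.omegaCenterOf_le _ (hVU huV))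
      have huc : ∀ r ∈ (T : Subgroup G), r * u = u * r := fun r hr => by
        have h := (s.fix_iff ⟨r, hr⟩ hu).1 (he ⟨r, hr⟩ (mem_top _))
        rw [mem_bot, commutatorElement_eq_one_iff_mul_comm] at h
        exact h.symm
      have huZ : u ∈ Z := Cfsg.Lib.JComp.mem_omegaCenterOf.2 ⟨huT, huc,
        (Cfsg.Lib.JComp.mem_omegaCenterOf.1 (hVU huV)).2.2⟩
      exact no_fix hVe (hKM.trans hMV) hOV hodd hu (mem_centralizer_iff.2 fun k hk =>
        (mem_centralizer_iff.1 (hKC hk) u huZ).symm)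
    have hDC : M ⊓ centralizer (V : Set G) ≤ C := inf_le_right.trans (centralizer_le hZV)
    have hKeq : Cfsg.oddGenerated (M ⊓ centralizer (V : Set G)) = K :=
      le_antisymm (Cfsg.Lib.JComp.oddGen_mono hDC)
        ((closure_le _).2 fun y hy => Subgroup.subset_closure
          ⟨⟨hKM (Subgroup.subset_closure hy), hKV (Subgroup.subset_closure hy)⟩, hy.2⟩)
    rw [← hKeq]
    exact (Cfsg.Lib.Coprime.le_normalizer_inf le_normalizer
      (hMV.trans (Cfsg.Lib.Large.normalizer_centralizer_le V))).trans (Cfsg.Lib.JComp.normalizer_le_oddGen _)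
  have hO2 : Cfsg.pCoreOf 2 K ≠ ⊥ := by
    intro h0
    refine hK0 (eq_bot_iff.2 fun k hk => ?_)
    have hKn := key M₁ h₁
    have hKM : K ≤ M₁ := hKC.trans h₁.2
    haveI : (K.subgroupOf M₁).Normal := normal_subgroupOf_of_le_normalizer hKn
    have hz : Cfsg.pCoreOf 2 M₁ ⊓ K = ⊥ := by
      rw [← le_bot_iff, ← h0]
      exact Cfsg.Lib.JComp.le_pCoreOf ((Cfsg.Lib.JComp.isPGroup_pCoreOf M₁).to_le inf_le_left) inf_le_right
        (Cfsg.Lib.Coprime.le_normalizer_inf (hKM.trans (le_normalizer.trans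
          (Cfsg.Lib.JComp.normalizer_le_pCoreOf 2 M₁))) le_normalizer)
    rw [← hz]
    refine ⟨selfCent c.hQ T (c.over h₁) ⟨hKM hk, mem_centralizer_iff.2 fun z hz' => ?_⟩, hk⟩
    have hmem : z * k * z⁻¹ * k⁻¹ ∈ Cfsg.pCoreOf 2 M₁ ⊓ K := by
      refine mem_inf.2 ⟨?_, mul_mem ((mem_normalizer_iff.1 (hKn (Cfsg.Lib.JComp.pCoreOf_le M₁ hz')) k).1 hk) (inv_mem hk)⟩
      rw [mul_assoc z k, mul_assoc z (k * z⁻¹)]
      exact mul_mem hz' ((mem_normalizer_iff.1 ((le_normalizer.trans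
        (Cfsg.Lib.JComp.normalizer_le_pCoreOf 2 M₁)) (hKM hk)) _).1 (inv_mem hz'))
    rw [hz, mem_bot] at hmem
    exact commutatorElement_eq_one_iff_mul_comm.1 hmem
  have hloc : Cfsg.IsTwoLocal (normalizer (Cfsg.pCoreOf 2 K : Set G)) :=
    ⟨_, Cfsg.Lib.JComp.isPGroup_pCoreOf K, hO2, rfl⟩
  have hle : ∀ M ∈ Cfsg.maxTwoLocalsContaining C, M = normalizer (Cfsg.pCoreOf 2 K : Set G) := fun M hM =>
    (hM.1.2 _ hloc ((key M hM).trans (Cfsg.Lib.JComp.normalizer_le_pCoreOf 2 K))).symm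
  exact hne ((hle M₁ h₁).trans (hle M₂ h₂).symm)

end Cfsg.Lib.QTCentZ
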